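import Groth.Agent.AlgSpLib.Covers
import Groth.Agent.AlgSpDec.HomDescent
import Groth.Agent.AlgSpDec.HenselLift

/-!
# Colimits of schemes which stay colimits among algebraic spaces
-/

set_option linter.style.haveILetI false
set_option autoImplicit false
set_option backward.isDefEq.respectTransparency false
set_option backward.isDefEq.respectTransparency.types false
set_option maxHeartbeats 1000000

universe w v u

open CategoryTheory CategoryTheory.Limits AlgebraicGeometry AlgSp
open Groth.Agent Groth.Agent.AlgSpLib

namespace Groth.Agent.AlgSpGlue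

variable {S : Scheme.{u}} {I : Type v} [Category.{w} I]

section

variable {D : I ⥤ Over S} {c : Cocone D}

theorem over_hom_ext (h : IsColimit ((Over.forget S).mapCocone c)) {E : Over S} {a b : c.pt ⟶ E}
    (e : ∀ i, c.ι.app i ≫ a = c.ι.app i ≫ b) : a = b :=
  Over.OverMorphism.ext (h.hom_ext fun i => congrArg (fun f => f.left) (e i))

theorem exists_over_desc (h : IsColimit ((Over.forget S).mapCocone c)) {E : Over S} (q : ∀ i, D.obj i ⟶ E)
    (hq : ∀ {i k} (f : i ⟶ k), D.map f ≫ q k = q i) : ∃ u : c.pt ⟶ E, ∀ i, c.ι.app i ≫ u = q i := by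
  let s : Cocone (D ⋙ Over.forget S) :=
    { pt := E.left
      ι := { app := fun i => (q i).left
             naturality := fun i k f => by
               show (D.map f).left ≫ (q k).left = (q i).left ≫ 𝟙 _
               rw [Category.comp_id, ← Over.comp_left, hq] } }
  refine ⟨Over.homMk (h.desc s) (h.hom_ext fun i => ?_), fun i => Over.OverMorphism.ext (h.fac s i)⟩
  rw [reassoc_of% (h.fac s i)]
  show (q i).left ≫ E.hom = (c.ι.app i).left ≫ c.pt.hom
  exact (Over.w (q i)).trans (Over.w (c.ι.app i)).symm

/-- Morphisms from a colimit of schemes to an algebraic space are determined on the diagram. -/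
theorem yon_hom_ext (h : IsColimit ((Over.forget S).mapCocone c)) {F : Sp S} (hF : IsAlgSpace F)
    {a b : (yon S).obj c.pt ⟶ F} (e : ∀ i, (yon S).map (c.ι.app i) ≫ a = (yon S).map (c.ι.app i) ≫ b) : a = b := by
  have hr : Representable (Limits.diag F) := hF.diag
  let θ : (yon S).obj c.pt ⟶ F ⨯ F := prod.lift a b
  let m := hr.snd θ
  haveI : Mono ((yon S).map m) := (hr.isPullback θ).mono_snd_of_mono
  haveI : Mono m := (yon S).mono_of_mono_map this
  choose q hq using fun i => (show ∃ q : D.obj i ⟶ hr.pullback θ, q ≫ m = c.ι.app i from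
    ⟨hr.lift ((yon S).map (c.ι.app i) ≫ a) (c.ι.app i) (prod.hom_ext
      (by rw [Category.assoc, prod.lift_fst, Category.comp_id, Category.assoc, prod.lift_fst])
      (by rw [Category.assoc, prod.lift_snd, Category.comp_id, Category.assoc, prod.lift_snd, e])),
      Functor.relativelyRepresentable.lift_snd _ _ _ _⟩)
  obtain ⟨σ, hσ⟩ := exists_over_desc h q (fun {i k} f => by rw [← cancel_mono m, Category.assoc, hq, hq, c.w])
  have hσm : σ ≫ m = 𝟙 c.pt := over_hom_ext h fun i => by rw [← Category.assoc, hσ, hq]; exact (Category.comp_id _).symm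
  have h₁ : hr.fst θ = (yon S).map m ≫ a := by
    have := congrArg (· ≫ prod.fst) (hr.w θ)
    rwa [Category.assoc, prod.lift_fst, Category.comp_id, Category.assoc, prod.lift_fst] at this
  have h₂ : hr.fst θ = (yon S).map m ≫ b := by
    have := congrArg (· ≫ prod.snd) (hr.w θ)
    rwa [Category.assoc, prod.lift_snd, Category.comp_id, Category.assoc, prod.lift_snd] at this
  have := congrArg ((yon S).map σ ≫ ·) (h₁.symm.trans h₂)
  simpa only [← Category.assoc, ← Functor.map_comp, hσm, CategoryTheory.Functor.map_id, Category.id_comp] using this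

end

/-- An algebraic space has an etale surjection from a separated scheme. -/
theorem exists_separated_atlas {F : Sp S} (hF : IsAlgSpace F) :
    ∃ (U : Over S) (b : (yon S).obj U ⟶ F), RepWith @Etale b ∧ RepWith @Surjective b ∧
      IsSeparated (terminal.from U.left) := by
  obtain ⟨A, b, hb, hbs⟩ := hF.atlas
  let W : A.left.affineOpens → Scheme.{u} := fun K => K.1.toScheme
  let d : ∐ W ⟶ A.left := Sigma.desc fun K => K.1.ι
  let U : Over S := Over.mk (d ≫ A.hom)
  let dd : U ⟶ A := Over.homMk d rfl
  haveI : Etale d := IsZariskiLocalAtSource.sigmaDesc (P := @Etale) fun K => inferInstanceAs (Etale K.1.ι)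
  haveI : Surjective d := ⟨fun x => by
    obtain ⟨K, hK, hxK, -⟩ := exists_isAffineOpen_mem_and_subset (U := (⊤ : A.left.Opens)) (x := x) trivial
    exact ⟨Sigma.ι W ⟨K, hK⟩ ⟨x, hxK⟩, by
      show (Sigma.ι W ⟨K, hK⟩ ≫ d) ⟨x, hxK⟩ = x
      rw [Sigma.ι_desc]
      rfl⟩⟩
  refine ⟨U, (yon S).map dd ≫ b, repWith_comp ((repWith_yon_map_iff _ _).2 ‹Etale d›) hb,
    repWith_comp ((repWith_yon_map_iff _ _).2 ‹Surjective d›) hbs, ?_⟩
  have e : terminal.from (∐ W) = Sigma.desc fun K => terminal.from (W K) := terminal.hom_ext _ _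
  show IsSeparated (terminal.from (∐ W))
  rw [e]
  exact AlgSpDec.isSeparated_sigmaDesc _ fun K => by
    haveI : IsAffine (W K) := K.2
    haveI : IsAffineHom (terminal.from (W K)) := inferInstance
    exact inferInstance

/-- Under etale descent of the diagram, a colimit of schemes receives every cocone to an algebraic space. -/
theorem existsUnique_yon_desc (D : I ⥤ Over S) (c : Cocone D) (h₁ : IsColimit ((Over.forget S).mapCocone c))
    (h₂ : ∀ x : ↥c.pt.left, ∃ (i : I) (y : ↥(D.obj i).left), (c.ι.app i).left y = x)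
    (h₃ : ∀ (D' : I ⥤ Over S) (α : D' ⟶ D) (c' : Cocone D') (a : c'.pt ⟶ c.pt), Etale a.left →
      (∀ i, IsPullback (c'.ι.app i) (α.app i) a (c.ι.app i)) → Nonempty (IsColimit ((Over.forget S).mapCocone c')))
    (h₄ : ∀ (D' : I ⥤ Over S) (α : D' ⟶ D), NatTrans.Equifibered α → (∀ i, Etale (α.app i).left) →
      (∀ i, IsSeparated (α.app i).left) →
      ∃ (c' : Cocone D') (a : c'.pt ⟶ c.pt), Etale a.left ∧ ∀ i, IsPullback (c'.ι.app i) (α.app i) a (c.ι.app i))
    {F : Sp S} (hF : IsAlgSpace F) (s : ∀ i, (yon S).obj (D.obj i) ⟶ F)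
    (hs : ∀ {i k} (f : i ⟶ k), (yon S).map (D.map f) ≫ s k = s i) :
    ∃! m : (yon S).obj c.pt ⟶ F, ∀ i, (yon S).map (c.ι.app i) ≫ m = s i := by
  obtain ⟨U, b, hb, hbs, hUsep⟩ := exists_separated_atlas hF
  -- the pulled back diagram
  let T : I → Over S := fun i => hb.rep.pullback (s i)
  let q : ∀ i, T i ⟶ D.obj i := fun i => hb.rep.snd (s i)
  let p : ∀ i, T i ⟶ U := fun i => hb.rep.fst' (s i)
  have hpq : ∀ i, (yon S).map (p i) ≫ b = (yon S).map (q i) ≫ s i := fun i => by
    rw [Functor.relativelyRepresentable.map_fst']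
    exact hb.rep.w (s i)
  let D' : I ⥤ Over S :=
    { obj := T
      map := fun {i k} f => hb.rep.lift' (p i) (q i ≫ D.map f) (by
        rw [Functor.map_comp, Category.assoc, hs, hpq])
      map_id := fun i => hb.rep.hom_ext' (by simp [p]) (by simp [q])
      map_comp := fun f g => hb.rep.hom_ext' (by simp [p]) (by simp [q]) }
  let α : D' ⟶ D := { app := q, naturality := fun i k f => by simp [D', q] }
  have hsq : ∀ i, IsPullback ((yon S).map (p i)) ((yon S).map (q i)) b (s i) := fun i => hb.rep.isPullback' (s i)
  have heq : NatTrans.Equifibered α := fun {i k} f => by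
    refine IsPullback.of_map (yon S) (α.naturality f) ?_
    refine IsPullback.of_right ?_ (by rw [← Functor.map_comp, α.naturality, Functor.map_comp]) (hsq k)
    rw [← Functor.map_comp, hs]
    convert hsq i using 2
    simp [D', p]
  have het : ∀ i, Etale (α.app i).left := fun i => hb.property_snd (s i)
  have hsep : ∀ i, IsSeparated (α.app i).left := fun i => by
    haveI : IsSeparated (pullback.fst (terminal.from (D.obj i).left) (terminal.from U.left)) :=
      MorphismProperty.pullback_fst _ _ hUsep
    let m : (T i).left ⟶ pullback (terminal.from (D.obj i).left) (terminal.from U.left) :=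
      pullback.lift (q i).left (p i).left (terminal.hom_ext _ _)
    haveI : Mono m := ⟨fun {R} x y e => by
      have e₁ : x ≫ (q i).left = y ≫ (q i).left := by
        rw [← pullback.lift_fst (f := terminal.from (D.obj i).left) (g := terminal.from U.left) (q i).left (p i).left (terminal.hom_ext _ _), ← Category.assoc, e, Category.assoc]
      have e₂ : x ≫ (p i).left = y ≫ (p i).left := by
        rw [← pullback.lift_snd (f := terminal.from (D.obj i).left) (g := terminal.from U.left) (q i).left (p i).left (terminal.hom_ext _ _), ← Category.assoc, e, Category.assoc]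
      let R' : Over S := Over.mk (x ≫ (T i).hom)
      let x' : R' ⟶ T i := Over.homMk x rfl
      let y' : R' ⟶ T i := Over.homMk y (by
        show y ≫ (T i).hom = x ≫ (T i).hom
        rw [← Over.w (q i), ← Category.assoc, ← e₁, Category.assoc])
      have hxy : x' = y' := hb.rep.hom_ext' (Over.OverMorphism.ext e₂) (Over.OverMorphism.ext e₁)
      exact congrArg (fun t : R' ⟶ T i => t.left) hxy⟩
    show IsSeparated (q i).left
    rw [← pullback.lift_fst (f := terminal.from (D.obj i).left) (g := terminal.from U.left) (q i).left (p i).left (terminal.hom_ext _ _)]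
    exact (inferInstance : IsSeparated (m ≫ pullback.fst (terminal.from (D.obj i).left) (terminal.from U.left)))
  obtain ⟨c', a, ha, hpb⟩ := h₄ D' α heq het hsep
  obtain ⟨hc'⟩ := h₃ D' α c' a ha hpb
  obtain ⟨u, hu⟩ := exists_over_desc hc' p (fun {i k} f => by simp [D', p])
  haveI : Surjective a.left := ⟨fun x => by
    obtain ⟨i, y, rfl⟩ := h₂ x
    obtain ⟨t, ht⟩ := (hbs.property (s i) _ _ (hb.rep.isPullback (s i)) : Surjective (q i).left).surj y
    refine ⟨(c'.ι.app i).left t, ?_⟩
    show ((c'.ι.app i) ≫ a).left t = _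
    rw [(hpb i).w, ← ht]
    rfl⟩
  -- the double overlap
  let W : Over S := pullback a a
  let D'' : I ⥤ Over S :=
    { obj := fun i => pullback (α.app i) (α.app i)
      map := fun {i k} f => pullback.map _ _ _ _ (D'.map f) (D'.map f) (D.map f) (α.naturality f).symm
        (α.naturality f).symm
      map_id := fun i => by apply pullback.hom_ext <;> simp
      map_comp := fun f g => by apply pullback.hom_ext <;> simp }
  let l : ∀ i, D''.obj i ⟶ W := fun i => pullback.map _ _ _ _ (c'.ι.app i) (c'.ι.app i) (c.ι.app i)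
    (hpb i).w.symm (hpb i).w.symm
  let c'' : Cocone D'' :=
    { pt := W
      ι := { app := l
             naturality := fun i k f => by
               apply pullback.hom_ext <;> simp [D'', l, W] } }
  let α'' : D'' ⟶ D :=
    { app := fun i => pullback.fst (α.app i) (α.app i) ≫ α.app i
      naturality := fun i k f => by simp [D''] }
  obtain ⟨hW⟩ := h₃ D'' α'' c'' (pullback.fst a a ≫ a) (by
      haveI := ha
      haveI : Etale (pullback.fst a a).left :=
        MorphismProperty.of_isPullback ((IsPullback.of_hasPullback a a).map (Over.forget S)).flip ha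
      exact inferInstanceAs (Etale ((pullback.fst a a).left ≫ a.left)))
    (fun i => by
      refine IsPullback.paste_vert ?_ (hpb i)
      refine IsPullback.of_right ?_ (pullback.lift_fst _ _ _) (IsPullback.of_hasPullback a a).flip
      rw [show c''.ι.app i ≫ pullback.snd a a = pullback.snd _ _ ≫ c'.ι.app i from pullback.lift_snd _ _ _,
        (hpb i).w]
      exact (IsPullback.of_hasPullback (α.app i) (α.app i)).flip.paste_horiz (hpb i))
  have hcu : ∀ i, (yon S).map (c'.ι.app i) ≫ (yon S).map u ≫ b = (yon S).map (α.app i) ≫ s i := fun i => by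
    rw [← Category.assoc, ← Functor.map_comp, hu, hpq]
  have hover : (yon S).map (pullback.fst a a) ≫ (yon S).map u ≫ b =
      (yon S).map (pullback.snd a a) ≫ (yon S).map u ≫ b := by
    refine yon_hom_ext hW hF fun i => ?_
    rw [← Category.assoc, ← Category.assoc ((yon S).map (c''.ι.app i)), ← Functor.map_comp, ← Functor.map_comp,
      show c''.ι.app i ≫ pullback.fst a a = pullback.fst _ _ ≫ c'.ι.app i from pullback.lift_fst _ _ _,
      show c''.ι.app i ≫ pullback.snd a a = pullback.snd _ _ ≫ c'.ι.app i from pullback.lift_snd _ _ _,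
      Functor.map_comp, Functor.map_comp, Category.assoc, Category.assoc, hcu, ← Category.assoc, ← Category.assoc,
      ← Functor.map_comp, ← Functor.map_comp, pullback.condition]
  obtain ⟨m, hm⟩ := AlgSpDec.exists_desc_of_fppfCover (IsAlgSpace.yon_obj c.pt)
    (fun _ : PUnit.{u + 1} => IsAlgSpace.yon_obj c'.pt)
    (isFppfCover_of_repWith_etale ((repWith_yon_map_iff _ a).2 ha) ((repWith_yon_map_iff _ a).2 ‹Surjective a.left›))
    (fun _ => (yon S).map u ≫ b) fun _ _ R x y e => by
      obtain ⟨x, rfl⟩ := (yon S).map_surjective x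
      obtain ⟨y, rfl⟩ := (yon S).map_surjective y
      have e' : x ≫ a = y ≫ a := (yon S).map_injective (by rw [Functor.map_comp, Functor.map_comp]; exact e)
      have := congrArg ((yon S).map (pullback.lift x y e') ≫ ·) hover
      simpa only [← Category.assoc, ← Functor.map_comp, pullback.lift_fst, pullback.lift_snd] using this
  have hmi : ∀ i, (yon S).map (c.ι.app i) ≫ m = s i := fun i => by
    haveI : Etale (q i).left := het i
    refine AlgSpDec.hom_ext_of_fppfCover (IsAlgSpace.yon_obj _) (fun _ : PUnit.{u + 1} => IsAlgSpace.yon_obj (T i))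
      (isFppfCover_of_repWith_etale ((repWith_yon_map_iff _ (q i)).2 (het i))
        ((repWith_yon_map_iff _ (q i)).2 (hbs.property (s i) _ _ (hb.rep.isPullback (s i))))) fun _ => ?_
    rw [← Category.assoc, ← Functor.map_comp, show q i ≫ c.ι.app i = c'.ι.app i ≫ a from (hpb i).w.symm,
      Functor.map_comp, Category.assoc, hm ⟨⟩]
    exact hcu i
  exact ⟨m, hmi, fun m' hm' => yon_hom_ext h₁ hF fun i => (hm' i).trans (hmi i).symm⟩

end Groth.Agent.AlgSpGlue
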