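import Groth.Agent.AlgSpGlue.Local
import Groth.Agent.AlgSpLib.EtLocalInst
import Groth.Agent.NormSp.Clopen
import Groth.Agent.AlgSpDec.AffineRep
import Groth.Agent.S10180
import Groth.Prelude.Def_AlgSpCov
import Groth.Prelude.Def_AlgSpMor5

/-!
# Formal glueing data give an fpqc covering

For `f : Y ⟶ X` flat over a finitely presented closed `Z` with `f⁻¹ Z ≅ Z`, affine charts of `Y` over affine
charts of `X`, localised near `Z`, form together with the open complement of `Z` an fpqc covering of `X`.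
-/

set_option linter.style.haveILetI false
set_option autoImplicit false
set_option backward.isDefEq.respectTransparency false
set_option backward.isDefEq.respectTransparency.types false
set_option maxHeartbeats 1000000

universe u

open CategoryTheory CategoryTheory.Limits AlgebraicGeometry AlgSp TopologicalSpace
open Groth.Agent Groth.Agent.AlgSpLib Groth.Agent.AlgSpDec

namespace Groth.Agent.AlgSpGlue

variable {S : Scheme.{u}} {X Y Z FZ U : AlgSp.Space S} {f : Y ⟶ X} {i : Z ⟶ X} {iY : FZ ⟶ Y} {fZ : FZ ⟶ Z}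

/-- Over an affine etale chart of `X` there is an affine scheme, flat over the chart and factoring through `Y`,
containing the points over `Z`. -/
theorem exists_piece (hqc : IsQuasiCompactMor f.hom) (hi : RepWith @IsClosedImmersion i.hom)
    (hFZ : IsPullback iY.hom fZ.hom f.hom i.hom) [IsIso fZ]
    (hflat : ∀ y ∈ Set.range (Points.map iY.hom), IsFlatAtMor f.hom y)
    {V : Over S} [IsAffine V.left] (e : (yon S).obj V ⟶ X.obj) (he : RepWith @Etale e) :
    ∃ (T : Over S) (h : T ⟶ V) (l : (yon S).obj T ⟶ Y.obj), IsAffine T.left ∧ Flat h.left ∧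
      LocP @Flat l ∧ l ≫ f.hom = (yon S).map h ≫ e ∧ Set.range (hi.rep.snd e).left ⊆ Set.range h.left := by
  have hP : IsAlgSpace (pullback f.hom e) := isAlgSpace_pullback Y.property (IsAlgSpace.yon_obj V) X.property _ _
  have hVqc : IsQuasiCompactSp ((yon S).obj V) := (AlgSpPts.isQuasiCompactSp_yon_iff _).2 inferInstance
  obtain ⟨W, w, hW, hwe, hws⟩ := (Groth.Agent.S10180.result ⟨_, hP⟩).1
    (hqc (IsAlgSpace.yon_obj V) hVqc e _ _ (IsPullback.of_hasPullback f.hom e))
  haveI := hW
  let a : (yon S).obj W ⟶ Y.obj := w ≫ pullback.fst f.hom e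
  have ha : RepWith @Etale a :=
    repWith_comp hwe (repWith_of_isPullback (IsPullback.of_hasPullback f.hom e).flip he)
  let h : W ⟶ V := (yon S).preimage (w ≫ pullback.snd f.hom e)
  have hmap : (yon S).map h = w ≫ pullback.snd f.hom e := (yon S).map_preimage _
  have hah : a ≫ f.hom = (yon S).map h ≫ e := by
    rw [hmap, Category.assoc, Category.assoc, pullback.condition]
  haveI : IsClosedImmersion (hi.rep.snd e).left := hi.property_snd e
  let C : Set ↥V.left := Set.range (hi.rep.snd e).left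
  have hCiff : ∀ v, Points.ofPt e v ∈ Set.range (Points.map i.hom) ↔ v ∈ C :=
    fun v => NormSp.ofPt_mem_range_iff (hi.rep.isPullback e) v
  have hflatW : ∀ x : ↥W.left, h.left x ∈ C → (h.left.stalkMap x).hom.Flat := by
    intro x hx
    refine hflat (Points.ofPt a x) ?_ a e h x ha he hah rfl
    obtain ⟨z, hz⟩ := (hCiff _).2 hx
    have hy : Points.map f.hom (Points.ofPt a x) = Points.map i.hom z := by
      rw [hz, Points.map_ofPt, hah, ofPt_comp]
    obtain ⟨q, hq, -⟩ := exists_point_of_isPullback hFZ hy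
    exact ⟨q, hq⟩
  obtain ⟨T₀, t, hT, hflt, hfl, hcov⟩ := exists_flat_localization h.left
    (hi.rep.snd e).left.isClosedEmbedding.isClosed_range hflatW
  let T : Over S := Over.mk (t ≫ W.hom)
  let tt : T ⟶ W := Over.homMk t rfl
  refine ⟨T, tt ≫ h, (yon S).map tt ≫ a, hT, hfl, ?_, ?_, fun v hv => ?_⟩
  · exact locP_of_repWith (repWith_comp ((repWith_yon_map_iff @Flat tt).2 hflt)
      (repWith_mono (fun _ _ g (_ : Etale g) => (inferInstance : Flat g)) _ ha))
  · rw [Category.assoc, hah, ← Category.assoc, ← Functor.map_comp]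
  · obtain ⟨z, hz⟩ := (hCiff v).2 hv
    haveI : IsIso fZ.hom := inferInstanceAs (IsIso ((ObjectProperty.ι _).map fZ))
    have hq : Points.map fZ.hom (Points.map (inv fZ.hom) z) = z := by
      rw [← Points.map_comp, IsIso.inv_hom_id, Points.map_id]
    have hy : Points.map f.hom (Points.map iY.hom (Points.map (inv fZ.hom) z)) =
        Points.map e (Points.ofScheme V v) := by
      rw [← Points.map_comp, hFZ.w, Points.map_comp, hq, hz, Points.ofPt_eq_map_ofScheme]
    obtain ⟨p, -, hp⟩ := exists_point_of_isPullback (IsPullback.of_hasPullback f.hom e) hy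
    obtain ⟨x, rfl⟩ := surjective_ofPt hws p
    have hxv : h.left x = v := by
      rw [Points.map_ofPt, ← hmap] at hp
      have := congrArg (Points.toScheme V) hp
      rwa [Points.toScheme_ofScheme, Points.toScheme_ofPt] at this
    obtain ⟨τ, hτ⟩ := hcov x (by rw [hxv]; exact hv)
    exact ⟨τ, by show h.left (t τ) = v; rw [hτ, hxv]⟩

/-- The formal glueing covering is an fpqc covering. -/
theorem exists_cover (hqc : IsQuasiCompactMor f.hom) (hi : RepWith @IsClosedImmersion i.hom)
    (hifp : LocP @LocallyOfFinitePresentation i.hom) (hFZ : IsPullback iY.hom fZ.hom f.hom i.hom) [IsIso fZ]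
    (hflat : ∀ y ∈ Set.range (Points.map iY.hom), IsFlatAtMor f.hom y) (j : U ⟶ X)
    (hj : RepWith @IsOpenImmersion j.hom)
    (hU : Set.range (Points.map j.hom) = (Set.range (Points.map i.hom))ᶜ) :
    ∃ (ι : Type u) (W : ι → AlgSp.Space S) (w : ∀ k, W k ⟶ X),
      AlgSp.IsFpqcCover (fun k => (W k).obj) (fun k => (w k).hom) ∧
        ∀ k, (∃ l : W k ⟶ U, l ≫ j = w k) ∨ (∃ l : W k ⟶ Y, LocP @Flat l.hom ∧ l ≫ f = w k) := by
  classical
  obtain ⟨A, b, hb, hbs⟩ := X.property.atlas
  let V : A.left.affineOpens → Over S := fun K => Over.mk (K.1.ι ≫ A.hom)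
  let κ : ∀ K, V K ⟶ A := fun K => Over.homMk K.1.ι rfl
  let e : ∀ K, (yon S).obj (V K) ⟶ X.obj := fun K => (yon S).map (κ K) ≫ b
  have he : ∀ K, RepWith @Etale (e K) := fun K =>
    repWith_comp ((repWith_yon_map_iff _ _).2 (inferInstanceAs (Etale K.1.ι))) hb
  have hVA : ∀ K, IsAffine (V K).left := fun K => K.2
  choose T h l hT hfl hlfl hlf hcov using fun K => haveI := hVA K; exists_piece hqc hi hFZ hflat (e K) (he K)
  let Wsp : Option A.left.affineOpens → AlgSp.Space S := fun k => k.elim U fun K => (AlgSp.ofScheme S).obj (T K)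
  let wsp : ∀ k, Wsp k ⟶ X := fun k =>
    match k with
    | none => j
    | some K => ObjectProperty.homMk ((yon S).map (h K) ≫ e K)
  refine ⟨Option A.left.affineOpens, Wsp, wsp, ⟨fun k => ?_, ?_⟩, fun k => ?_⟩
  · cases k with
    | none => exact locP_of_repWith (repWith_mono (fun _ _ _ (_ : IsOpenImmersion _) => inferInstanceAs (Flat _)) _ hj)
    | some K => exact locP_of_repWith (repWith_comp ((repWith_yon_map_iff _ _).2 (hfl K))
        (repWith_mono (fun _ _ g (_ : Etale g) => (inferInstance : Flat g)) _ (he K)))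
  rotate_left
  · cases k with
    | none => exact Or.inl ⟨𝟙 U, Category.id_comp _⟩
    | some K => exact Or.inr ⟨ObjectProperty.homMk (l K), hlfl K, ObjectProperty.hom_ext _ (hlf K)⟩
  intro Q hQ h0
  haveI : IsAffine Q.left := hQ
  -- the open part
  haveI : IsClosedImmersion (hi.rep.snd h0).left := hi.property_snd h0
  haveI : LocallyOfFinitePresentation (hi.rep.snd h0).left :=
    (repWith_of_locP X.property hi.rep hifp).property_snd h0
  haveI : IsOpenImmersion (hj.rep.snd h0).left := hj.property_snd h0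
  let O := (hj.rep.snd h0).left.opensRange
  have hO : (O : Set ↥Q.left) = (Set.range (hi.rep.snd h0).left)ᶜ := by
    ext z
    show z ∈ Set.range (hj.rep.snd h0).left ↔ _
    rw [← NormSp.ofPt_mem_range_iff (hj.rep.isPullback h0) z, hU, Set.mem_compl_iff, Set.mem_compl_iff,
      NormSp.ofPt_mem_range_iff (hi.rep.isPullback h0) z]
  have hOc : IsCompact (O : Set ↥Q.left) := by
    rw [hO]
    exact isCompact_compl_range _
  choose D hD hzD hDO using fun z : ↥O => exists_isAffineOpen_mem_and_subset (U := O) (x := z.1) z.2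
  obtain ⟨s, hs⟩ := hOc.elim_finite_subcover (fun z : ↥O => (D z : Set ↥Q.left)) (fun z => (D z).isOpen)
    fun z hz => Set.mem_iUnion.2 ⟨⟨z, hz⟩, hzD _⟩
  -- charts of `Q`
  let P₀ := hb.rep.pullback h0
  let π : P₀ ⟶ Q := hb.rep.snd h0
  let ρ : P₀ ⟶ A := hb.rep.fst' h0
  have hρπ : (yon S).map ρ ≫ b = (yon S).map π ≫ h0 := by
    rw [Functor.relativelyRepresentable.map_fst']
    exact hb.rep.w h0
  haveI : Etale π.left := hb.property_snd h0
  haveI : Surjective π.left := hbs.property h0 _ _ (hb.rep.isPullback h0)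
  have key : ∀ p : ↥P₀.left, ∃ (K : A.left.affineOpens) (N : P₀.left.Opens), IsAffineOpen N ∧ p ∈ N ∧
      N ≤ ρ.left ⁻¹ᵁ K.1 := fun p => by
    obtain ⟨K, hK, hpK, -⟩ := exists_isAffineOpen_mem_and_subset (U := (⊤ : A.left.Opens)) (x := ρ.left p) trivial
    obtain ⟨N, hN, hpN, hNK⟩ := exists_isAffineOpen_mem_and_subset (U := ρ.left ⁻¹ᵁ K) (x := p) hpK
    exact ⟨⟨K, hK⟩, N, hN, hpN, hNK⟩
  choose K N hN hpN hNK using key
  obtain ⟨r, hr⟩ := isCompact_univ.elim_finite_subcover (fun p => π.left '' (N p : Set ↥P₀.left))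
    (fun p => π.left.isOpenMap _ (N p).isOpen) fun z _ => by
      obtain ⟨p, rfl⟩ := π.left.surjective z
      exact Set.mem_iUnion.2 ⟨p, p, hpN p, rfl⟩
  let nV : ∀ p, (N p).toScheme ⟶ (V (K p)).left := fun p =>
    IsOpenImmersion.lift (K p).1.ι ((N p).ι ≫ ρ.left) (by
      rintro _ ⟨n, rfl⟩
      exact (Scheme.Opens.range_ι _).ge (hNK p n.2))
  have hnV : ∀ p, nV p ≫ (K p).1.ι = (N p).ι ≫ ρ.left := fun p => IsOpenImmersion.lift_fac _ _ _
  let No : ↥P₀.left → Over S := fun p => Over.mk ((N p).ι ≫ P₀.hom)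
  let nP : ∀ p, No p ⟶ P₀ := fun p => Over.homMk (N p).ι rfl
  let nVo : ∀ p, No p ⟶ V (K p) := fun p => Over.homMk (nV p) (by
    show nV p ≫ (K p).1.ι ≫ A.hom = (N p).ι ≫ P₀.hom
    rw [← Category.assoc, hnV, Category.assoc, Over.w ρ])
  let W₁ : ↥P₀.left → Over S := fun p => Over.mk (pullback.fst (nV p) (h (K p)).left ≫ (No p).hom)
  let fst₁ : ∀ p, W₁ p ⟶ No p := fun p => Over.homMk (pullback.fst (nV p) (h (K p)).left) rfl
  let snd₁ : ∀ p, W₁ p ⟶ T (K p) := fun p => Over.homMk (pullback.snd (nV p) (h (K p)).left) (by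
    show pullback.snd _ _ ≫ (T (K p)).hom = pullback.fst _ _ ≫ (No p).hom
    rw [← Over.w (h (K p)), ← pullback.condition_assoc]
    exact congrArg (pullback.fst _ _ ≫ ·) (Over.w (nVo p)))
  let W₂ : ↥O → Over S := fun z => Over.mk ((D z).ι ≫ Q.hom)
  let Idx := ↥s ⊕ ↥r
  let Wt : Idx → Over S := fun k => Sum.elim (fun z => W₂ z.1) (fun p => W₁ p.1) k
  let ct : ∀ k, Wt k ⟶ Q := fun k =>
    match k with
    | Sum.inl z => Over.homMk (D z.1).ι rfl
    | Sum.inr p => fst₁ p.1 ≫ nP p.1 ≫ π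
  let eq := (Fintype.equivFin Idx).symm
  refine ⟨Fintype.card Idx, fun k => Wt (eq k), fun k => ct (eq k), fun k => ?_, fun k => ?_, fun z => ?_, fun k => ?_⟩
  · suffices H : ∀ k : Idx, IsAffine (Wt k).left from H (eq k)
    rintro (z | p)
    · exact hD z.1
    · haveI : IsAffine (N p.1).toScheme := hN p.1
      haveI : IsAffine (T (K p.1)).left := hT _
      haveI : IsAffine (V (K p.1)).left := hVA _
      exact inferInstanceAs (IsAffine (pullback (nV p.1) (h (K p.1)).left))
  · suffices H : ∀ k : Idx, Flat (ct k).left from H (eq k)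
    rintro (z | p)
    · exact inferInstanceAs (Flat (D z.1).ι)
    · haveI := hfl (K p.1)
      exact inferInstanceAs (Flat (pullback.fst (nV p.1) (h (K p.1)).left ≫ (N p.1).ι ≫ π.left))
  · suffices ∃ k : Idx, z ∈ Set.range (ct k).left from
      by obtain ⟨k, hk⟩ := this; obtain ⟨k', rfl⟩ := eq.surjective k; exact ⟨k', hk⟩
    by_cases hz : z ∈ (O : Set ↥Q.left)
    · obtain ⟨z', hz', hzD'⟩ := Set.mem_iUnion₂.1 (hs hz)
      exact ⟨Sum.inl ⟨z', hz'⟩, ⟨⟨z, hzD'⟩, rfl⟩⟩
    · obtain ⟨p, hp, q, hq, rfl⟩ := Set.mem_iUnion₂.1 (hr (Set.mem_univ z))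
      let n : ↥(N p) := ⟨q, hq⟩
      have hmem : nV p n ∈ Set.range (hi.rep.snd (e (K p))).left := by
        rw [← NormSp.ofPt_mem_range_iff (hi.rep.isPullback (e (K p))), ofPt_comp]
        have h2 : (κ (K p)).left (nV p n) = ρ.left q := by
          show ((nV p) ≫ (K p).1.ι) n = _
          rw [hnV]
          rfl
        rw [h2, ← ofPt_comp, hρπ, ofPt_comp, NormSp.ofPt_mem_range_iff (hi.rep.isPullback h0)]
        rw [hO, Set.mem_compl_iff, not_not] at hz
        exact hz
      obtain ⟨τ, hτ⟩ := hcov (K p) hmem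
      obtain ⟨x, hx, -⟩ := Scheme.Pullback.exists_preimage_pullback (f := nV p) (g := (h (K p)).left) n τ hτ.symm
      exact ⟨Sum.inr ⟨p, hp⟩, x, congrArg (fun m => π.left ((N p).ι m)) hx⟩
  · suffices H : ∀ k : Idx, ∃ (a : Option A.left.affineOpens) (l' : (yon S).obj (Wt k) ⟶ (Wsp a).obj),
        l' ≫ (wsp a).hom = (yon S).map (ct k) ≫ h0 from H (eq k)
    rintro (z | p)
    · have hr : Set.range (D z.1).ι ⊆ Set.range (hj.rep.snd h0).left := by
        rw [Scheme.Opens.range_ι]
        exact hDO z.1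
      let m : Over.mk ((D z.1).ι ≫ Q.hom) ⟶ hj.rep.pullback h0 :=
        Over.homMk (IsOpenImmersion.lift (hj.rep.snd h0).left (D z.1).ι hr) (by
          show _ ≫ (hj.rep.pullback h0).hom = (D z.1).ι ≫ Q.hom
          rw [← Over.w (hj.rep.snd h0), ← Category.assoc, IsOpenImmersion.lift_fac])
      refine ⟨none, (yon S).map m ≫ hj.rep.fst h0, ?_⟩
      show ((yon S).map m ≫ hj.rep.fst h0) ≫ j.hom =
        (yon S).map (Over.homMk (D z.1).ι rfl : Over.mk ((D z.1).ι ≫ Q.hom) ⟶ Q) ≫ h0
      rw [Category.assoc, hj.rep.w h0, ← Category.assoc, ← Functor.map_comp]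
      congr 2
      exact Over.OverMorphism.ext (IsOpenImmersion.lift_fac _ _ _)
    · refine ⟨some (K p.1), (yon S).map (snd₁ p.1), ?_⟩
      have e1 : snd₁ p.1 ≫ h (K p.1) = fst₁ p.1 ≫ nVo p.1 :=
        Over.OverMorphism.ext pullback.condition.symm
      have e2 : nVo p.1 ≫ κ (K p.1) = nP p.1 ≫ ρ := Over.OverMorphism.ext (hnV p.1)
      show (yon S).map (snd₁ p.1) ≫ (yon S).map (h (K p.1)) ≫ (yon S).map (κ (K p.1)) ≫ b =
        (yon S).map (fst₁ p.1 ≫ nP p.1 ≫ π) ≫ h0
      rw [← Category.assoc, ← Category.assoc, ← Functor.map_comp, ← Functor.map_comp, e1, Category.assoc, e2,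
        Functor.map_comp, Functor.map_comp, Category.assoc, Category.assoc, hρπ, Functor.map_comp,
        Functor.map_comp, Category.assoc, Category.assoc]

end Groth.Agent.AlgSpGlue
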