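import Groth.Agent.AlgSpFpqc.Mor
import Groth.Agent.AlgSpLib.EtLocalInst
import Groth.Prelude.Def_AlgSpCov

/-!
# Isomorphisms can be recognised on an fpqc covering of the base
-/

set_option linter.style.haveILetI false
set_option autoImplicit false
set_option backward.isDefEq.respectTransparency false
set_option backward.isDefEq.respectTransparency.types false

universe u

open CategoryTheory CategoryTheory.Limits AlgebraicGeometry AlgSp
open Groth.Agent Groth.Agent.AlgSpLib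

namespace Groth.Agent.AlgSpGlue

variable {S : Scheme.{u}}

/-- The base change of an fpqc covering is one. -/
theorem isFpqcCover_pullback {ι : Type u} {T T' : Sp S} (hT : IsAlgSpace T) (hT' : IsAlgSpace T') {Ti : ι → Sp S}
    (hTi : ∀ k, IsAlgSpace (Ti k)) {g : ∀ k, Ti k ⟶ T} (hg : IsFpqcCover Ti g) (p : T' ⟶ T) :
    IsFpqcCover (fun k => pullback (g k) p) (fun k => pullback.snd (g k) p) := by
  refine ⟨fun k => locP_of_isPullback (IsPullback.of_hasPullback (g k) p) (hTi k) hT hT' (hg.1 k), fun Z hZ h => ?_⟩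
  obtain ⟨m, W, c, hW, hc, hs, hl⟩ := hg.2 Z hZ (h ≫ p)
  refine ⟨m, W, c, hW, hc, hs, fun n => ?_⟩
  obtain ⟨k, l, hl⟩ := hl n
  exact ⟨k, pullback.lift l ((yon S).map (c n) ≫ h) (by rw [hl, Category.assoc]), pullback.lift_snd _ _ _⟩

/-- A morphism which is an isomorphism over the members of an fpqc covering of the base is one. -/
theorem isIso_of_fpqcCover {ι : Type u} {X X₁ X₂ : Sp S} (hX : IsAlgSpace X) (h₁ : IsAlgSpace X₁)
    (h₂ : IsAlgSpace X₂) {Ti : ι → Sp S} (hTi : ∀ k, IsAlgSpace (Ti k)) {g : ∀ k, Ti k ⟶ X}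
    (hg : IsFpqcCover Ti g) (p₂ : X₂ ⟶ X) (a : X₁ ⟶ X₂)
    (hloc : ∀ k, ∃ (Q Q₁ : Sp S) (q : Q ⟶ X₂) (b : Q₁ ⟶ X₁) (a' : Q₁ ⟶ Q) (l : pullback (g k) p₂ ⟶ Q),
      IsPullback b a' a q ∧ IsIso a' ∧ l ≫ q = pullback.snd (g k) p₂) : IsIso a := by
  choose Q Q₁ q b a' l hQ hiso hl using hloc
  haveI := hiso
  -- lifts through a member are unique
  have huniq : ∀ {V : Sp S} (k : ι) (v : V ⟶ Q k) (x : V ⟶ X₁), x ≫ a = v ≫ q k → x = v ≫ inv (a' k) ≫ b k := by
    intro V k v x hx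
    have h := (hQ k).lift_fst x v hx
    have h2 := (hQ k).lift_snd x v hx
    rw [← h]
    conv_rhs => rw [← h2]
    rw [Category.assoc, IsIso.hom_inv_id_assoc]
  have hlift : ∀ k, (l k ≫ inv (a' k) ≫ b k) ≫ a = pullback.snd (g k) p₂ := fun k => by
    rw [Category.assoc, Category.assoc, (hQ k).w, IsIso.inv_hom_id_assoc, hl]
  have hg₂ := isFpqcCover_pullback hX h₂ hTi hg p₂
  obtain ⟨m, hm⟩ := AlgSpFpqc.exists_desc_of_fpqcCover (fun k => pullback.snd (g k) p₂)
    (fun k => l k ≫ inv (a' k) ≫ b k) h₁ hg₂ h₂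
    (fun k => isAlgSpace_pullback (hTi k) h₂ hX _ _) fun V i j v v' e => by
      refine (huniq j (v' ≫ l j) (v ≫ l i ≫ inv (a' i) ≫ b i) ?_).trans (Category.assoc _ _ _)
      rw [show (v ≫ l i ≫ inv (a' i) ≫ b i) ≫ a = v ≫ pullback.snd (g i) p₂ by rw [Category.assoc, hlift], e,
        Category.assoc, hl]
  refine ⟨m, ?_, AlgSpFpqc.hom_ext_of_fpqcCover (fun k => pullback.snd (g k) p₂) h₂ hg₂ h₂ fun k => ?_⟩
  · refine AlgSpFpqc.hom_ext_of_fpqcCover (fun k => pullback.snd (g k) (a ≫ p₂)) h₁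
      (isFpqcCover_pullback hX h₁ hTi hg (a ≫ p₂)) h₁ fun k => ?_
    let t : pullback (g k) (a ≫ p₂) ⟶ pullback (g k) p₂ :=
      pullback.lift (pullback.fst _ _) (pullback.snd _ _ ≫ a) (by rw [Category.assoc]; exact pullback.condition)
    rw [← Category.assoc, show pullback.snd (g k) (a ≫ p₂) ≫ a = t ≫ pullback.snd (g k) p₂ from
      (pullback.lift_snd _ _ _).symm, Category.assoc, hm, Category.comp_id]
    refine ((huniq k (t ≫ l k) _ ?_).trans (Category.assoc _ _ _)).symm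
    rw [Category.assoc, hl, pullback.lift_snd]
  · rw [← Category.assoc, hm, hlift, Category.comp_id]

end Groth.Agent.AlgSpGlue
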