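import Groth.Agent.AlgSpGlue.SchemeEq
import Groth.Agent.AlgSpLib.EtLocalInst
import Groth.Agent.AlgSpLib.Covers
import Groth.Agent.AlgSpDec.HomDescent
import Groth.Agent.AlgSpDec.Glue
import Groth.Agent.NormSp.Clopen
import Groth.Prelude.Def_AlgSpMor5

/-!
# Morphisms to a separated space agreeing off a closed set and on a formal neighbourhood agree
-/

set_option linter.style.haveILetI false
set_option autoImplicit false
set_option backward.isDefEq.respectTransparency false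
set_option backward.isDefEq.respectTransparency.types false
set_option maxHeartbeats 1000000

universe u

open CategoryTheory CategoryTheory.Limits AlgebraicGeometry AlgSp TopologicalSpace
open Groth.Agent Groth.Agent.AlgSpLib

namespace Groth.Agent.AlgSpGlue

variable {S : Scheme.{u}} {G₀ G₁ X₁ X₂ X Z U : Sp S}

/-- Two morphisms to a space separated over `X` agree if they agree off `Z` and on a monomorphism through
which everything over `Z` factors, both sources being flat over `X₁`. -/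
theorem eq_of_glue (hG₀ : IsAlgSpace G₀) (hX₁ : IsAlgSpace X₁) (hX : IsAlgSpace X) (σ : G₀ ⟶ X₁) (hσ : LocP @Flat σ)
    (m : G₁ ⟶ G₀) (hm : Representable m) (hmσ : LocP @Flat (m ≫ σ)) (p₁ : X₁ ⟶ X) {i : Z ⟶ X}
    (hi : RepWith @IsClosedImmersion i) (hifp : LocP @LocallyOfFinitePresentation i) {j : U ⟶ X}
    (hj : RepWith @IsOpenImmersion j) (hU : Set.range (Points.map j) = (Set.range (Points.map i))ᶜ)
    (hlift : ∀ (V : Over S) (y : (yon S).obj V ⟶ G₀) (z : (yon S).obj V ⟶ Z),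
      y ≫ σ ≫ p₁ = z ≫ i → ∃ l : (yon S).obj V ⟶ G₁, l ≫ m = y)
    (g g' : G₀ ⟶ X₂) (p₂ : X₂ ⟶ X) (hp₂ : IsSeparatedMor p₂) (hg : g ≫ p₂ = g' ≫ p₂) (hmg : m ≫ g = m ≫ g')
    (hopen : ∀ (V : Over S) (y : (yon S).obj V ⟶ G₀) (z : (yon S).obj V ⟶ U),
      y ≫ σ ≫ p₁ = z ≫ j → y ≫ g = y ≫ g') : g = g' := by
  obtain ⟨A, b, hb, hbs⟩ := hX₁.atlas
  obtain ⟨Q₀, c₀, hc, hcs⟩ := (isAlgSpace_pullback hG₀ (IsAlgSpace.yon_obj A) hX₁ σ b).atlas
  let ρ₀ : (yon S).obj Q₀ ⟶ G₀ := c₀ ≫ pullback.fst σ b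
  let π₀ : Q₀ ⟶ A := (yon S).preimage (c₀ ≫ pullback.snd σ b)
  have hρ₀ : RepWith @Etale ρ₀ := repWith_comp hc (repWith_fst σ hb)
  have hρ₀s : RepWith @Surjective ρ₀ := repWith_comp hcs (repWith_fst σ hbs)
  have hρπ₀ : ρ₀ ≫ σ = (yon S).map π₀ ≫ b := by
    rw [Functor.map_preimage, Category.assoc, Category.assoc, pullback.condition]
  refine AlgSpDec.hom_ext_of_fppfCover hG₀ (fun _ : PUnit.{u + 1} => IsAlgSpace.yon_obj Q₀)
    (isFppfCover_of_repWith_etale hρ₀ hρ₀s) fun _ => ?_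
  let 𝒰 : Q₀.left.OpenCover := Q₀.left.openCoverOfIsOpenCover (fun K : A.left.affineOpens => π₀.left ⁻¹ᵁ K.1)
    (IsOpenCover.comap (iSup_affineOpens_eq_top A.left) π₀.left.base.hom)
  refine AlgSpDec.hom_ext_of_openCover 𝒰 _ _ fun K => ?_
  let K' : A.left.affineOpens := K
  let V : Over S := Over.mk (K'.1.ι ≫ A.hom)
  haveI : IsAffine V.left := K'.2
  let Q : Over S := Over.mk (𝒰.f K ≫ Q₀.hom)
  let inc : Q ⟶ Q₀ := Over.homMk (𝒰.f K) rfl
  let κ : V ⟶ A := Over.homMk K'.1.ι rfl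
  let π : Q ⟶ V := Over.homMk (π₀.left ∣_ K'.1) (by
    show (π₀.left ∣_ K'.1) ≫ K'.1.ι ≫ A.hom = (π₀.left ⁻¹ᵁ K'.1).ι ≫ Q₀.hom
    rw [← Category.assoc, morphismRestrict_ι, Category.assoc, Over.w π₀])
  have hκ : π ≫ κ = inc ≫ π₀ := Over.OverMorphism.ext (morphismRestrict_ι π₀.left K'.1)
  let η : (yon S).obj V ⟶ X₁ := (yon S).map κ ≫ b
  have hη : RepWith @Etale η := repWith_comp ((repWith_yon_map_iff _ _).2 (inferInstanceAs (Etale K'.1.ι))) hb
  let ρ : (yon S).obj Q ⟶ G₀ := (yon S).map inc ≫ ρ₀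
  have hρ : RepWith @Etale ρ :=
    repWith_comp ((repWith_yon_map_iff _ _).2 (inferInstanceAs (Etale (π₀.left ⁻¹ᵁ K'.1).ι))) hρ₀
  have hρπ : ρ ≫ σ = (yon S).map π ≫ η := by
    show ((yon S).map inc ≫ ρ₀) ≫ σ = (yon S).map π ≫ (yon S).map κ ≫ b
    rw [Category.assoc, hρπ₀, ← Category.assoc, ← Functor.map_comp, ← hκ, Functor.map_comp, Category.assoc]
  have hρdef : ρ = (yon S).map inc ≫ ρ₀ := rfl
  clear_value ρ η
  haveI : Flat π.left := hσ ρ η π hρ hη hρπ
  -- the part receiving everything over `Z`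
  let P := hm.pullback ρ
  let φ : P ⟶ Q := hm.snd ρ
  have hφρ : hm.fst ρ ≫ m = (yon S).map φ ≫ ρ := hm.w ρ
  haveI : Flat (φ.left ≫ π.left) := by
    rw [← Over.comp_left]
    exact hmσ (hm.fst ρ) η (φ ≫ π) (repWith_of_isPullback (hm.isPullback ρ).flip hρ) hη
      (by rw [← Category.assoc, hφρ, Category.assoc, hρπ, Functor.map_comp, Category.assoc])
  let ξ : (yon S).obj V ⟶ X := η ≫ p₁
  let iC : hi.rep.pullback ξ ⟶ V := hi.rep.snd ξ
  haveI : IsClosedImmersion iC.left := hi.property_snd ξ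
  haveI : LocallyOfFinitePresentation iC.left := (repWith_of_locP hX hi.rep hifp).property_snd ξ
  have hliftS : ∀ (R : Scheme.{u}) (q : R ⟶ Q.left) (c : R ⟶ (hi.rep.pullback ξ).left),
      q ≫ π.left = c ≫ iC.left → ∃ l : R ⟶ P.left, l ≫ φ.left = q := by
    intro R q c hqc
    let R' : Over S := Over.mk (q ≫ Q.hom)
    let q' : R' ⟶ Q := Over.homMk q rfl
    let c' : R' ⟶ hi.rep.pullback ξ := Over.homMk c (by
      show c ≫ (hi.rep.pullback ξ).hom = q ≫ Q.hom
      rw [← Over.w iC, ← Category.assoc, ← hqc, Category.assoc, Over.w π])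
    have hqc' : q' ≫ π = c' ≫ iC := Over.OverMorphism.ext hqc
    obtain ⟨l, hl⟩ := hlift R' ((yon S).map q' ≫ ρ) ((yon S).map c' ≫ hi.rep.fst ξ) (by
      rw [Category.assoc, ← Category.assoc ρ σ p₁, hρπ, Category.assoc, ← Category.assoc, ← Functor.map_comp, hqc',
        Functor.map_comp]
      simp only [Category.assoc]
      exact congrArg ((yon S).map c' ≫ ·) (hi.rep.w ξ).symm)
    exact ⟨(hm.lift l q' hl).left, by rw [← Over.comp_left, Functor.relativelyRepresentable.lift_snd]; rfl⟩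
  -- the locus where the two morphisms agree
  let θ : (yon S).obj Q ⟶ pullback p₂ p₂ :=
    pullback.lift (ρ ≫ g) (ρ ≫ g') (by rw [Category.assoc, Category.assoc, hg])
  have hθ₁ : θ ≫ pullback.fst p₂ p₂ = ρ ≫ g := pullback.lift_fst _ _ _
  have hθ₂ : θ ≫ pullback.snd p₂ p₂ = ρ ≫ g' := pullback.lift_snd _ _ _
  let e : hp₂.rep.pullback θ ⟶ Q := hp₂.rep.snd θ
  haveI : IsClosedImmersion e.left := hp₂.property_snd θ
  have heq : (yon S).map e ≫ ρ ≫ g = (yon S).map e ≫ ρ ≫ g' := by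
    rw [← hθ₁, ← hθ₂, ← Category.assoc, ← Category.assoc, ← hp₂.rep.w θ, Category.assoc, Category.assoc,
      pullback.diagonal_fst, pullback.diagonal_snd]
  have hfac : ∀ {R : Over S} (q : R ⟶ Q), (yon S).map q ≫ ρ ≫ g = (yon S).map q ≫ ρ ≫ g' →
      ∃ r : R ⟶ hp₂.rep.pullback θ, r ≫ e = q := fun {R} q hq =>
    ⟨hp₂.rep.lift ((yon S).map q ≫ ρ ≫ g) q (pullback.hom_ext
        (by rw [Category.assoc, pullback.diagonal_fst, Category.comp_id, Category.assoc, hθ₁])
        (by rw [Category.assoc, pullback.diagonal_snd, Category.comp_id, Category.assoc, hθ₂, hq])),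
      Functor.relativelyRepresentable.lift_snd _ _ _ _⟩
  obtain ⟨f, hf⟩ := hfac φ (by
    rw [← Category.assoc, ← hφρ, Category.assoc, hmg, ← Category.assoc, hφρ, Category.assoc])
  -- the open complement
  haveI : IsOpenImmersion (hj.rep.snd ξ).left := hj.property_snd ξ
  let O := (hj.rep.snd ξ).left.opensRange
  let W := π.left ⁻¹ᵁ O
  have hW : ∀ q, π.left q ∉ Set.range iC.left → q ∈ W := fun q hq => by
    show π.left q ∈ Set.range (hj.rep.snd ξ).left
    rw [← NormSp.ofPt_mem_range_iff (hj.rep.isPullback ξ) (π.left q), hU, Set.mem_compl_iff,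
      NormSp.ofPt_mem_range_iff (hi.rep.isPullback ξ) (π.left q)]
    exact hq
  let Wo : Over S := Over.mk (W.ι ≫ Q.hom)
  let wi : Wo ⟶ Q := Over.homMk W.ι rfl
  let zW : Wo ⟶ hj.rep.pullback ξ := Over.homMk (IsOpenImmersion.lift (hj.rep.snd ξ).left (W.ι ≫ π.left) (by
      rintro _ ⟨x, rfl⟩
      exact x.2)) (by
    show _ ≫ (hj.rep.pullback ξ).hom = W.ι ≫ Q.hom
    rw [← Over.w (hj.rep.snd ξ), ← Category.assoc, IsOpenImmersion.lift_fac, Category.assoc, Over.w π])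
  have hzW : wi ≫ π = zW ≫ hj.rep.snd ξ := Over.OverMorphism.ext (IsOpenImmersion.lift_fac _ _ _).symm
  obtain ⟨w, hw⟩ := hfac wi (by
    rw [← Category.assoc, ← Category.assoc]
    refine hopen Wo _ ((yon S).map zW ≫ hj.rep.fst ξ) ?_
    rw [Category.assoc, ← Category.assoc ρ σ p₁, hρπ, Category.assoc, ← Category.assoc, ← Functor.map_comp, hzW,
      Functor.map_comp]
    simp only [Category.assoc]
    exact congrArg ((yon S).map zW ≫ ·) (hj.rep.w ξ).symm)
  haveI : IsIso e.left := isIso_of_closed iC.left π.left φ.left hliftS e.left f.left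
    (by rw [← Over.comp_left, hf]) W hW w.left (by rw [← Over.comp_left, hw]; rfl)
  haveI : IsIso ((Over.forget S).map e) := inferInstanceAs (IsIso e.left)
  haveI : IsIso e := isIso_of_reflects_iso e (Over.forget S)
  show (yon S).map inc ≫ ρ₀ ≫ g = (yon S).map inc ≫ ρ₀ ≫ g'
  exact ((congrArg (· ≫ g) hρdef).trans (Category.assoc _ _ _)).symm.trans (((cancel_epi ((yon S).map e)).1 heq).trans
    ((congrArg (· ≫ g') hρdef).trans (Category.assoc _ _ _)))

end Groth.Agent.AlgSpGlue
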