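import Groth.Agent.AlgSpGlue.Cover
import Groth.Agent.AlgSpGlue.Reflect
import Groth.Agent.AlgSpGlue.SpaceEq
import Groth.Agent.AlgSpPts.Sep

/-!
# Morphisms glue along a formal glueing datum
-/

set_option linter.style.haveILetI false
set_option autoImplicit false
set_option backward.isDefEq.respectTransparency false
set_option backward.isDefEq.respectTransparency.types false
set_option maxHeartbeats 1000000

universe u

open CategoryTheory CategoryTheory.Limits AlgebraicGeometry AlgSp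
open Groth.Agent Groth.Agent.AlgSpLib

namespace Groth.Agent.AlgSpGlue

variable {S : Scheme.{u}} {X Y Z FZ U X₁ X₂ A₁U A₁Y A₁V : Sp S}

/-- The value of the glued morphism on a source mapping to one of the two pieces is well defined. -/
theorem eq_of_pieces (hX : IsAlgSpace X) (hA : IsAlgSpace A₁Y) (hX₁ : IsAlgSpace X₁) {f : Y ⟶ X} {i : Z ⟶ X}
    (hi : RepWith @IsClosedImmersion i) (hifp : LocP @LocallyOfFinitePresentation i) {iY : FZ ⟶ Y} {fZ : FZ ⟶ Z}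
    (hFZ : IsPullback iY fZ f i) [IsIso fZ] {j : U ⟶ X} (hj : RepWith @IsOpenImmersion j)
    (hU : Set.range (Points.map j) = (Set.range (Points.map i))ᶜ) (p₁ : X₁ ⟶ X)
    {a₁Y : A₁Y ⟶ X₁} {r₁Y : A₁Y ⟶ Y} (h₁Y : IsPullback a₁Y r₁Y p₁ f) {a₁U : A₁U ⟶ X₁} {r₁U : A₁U ⟶ U}
    (h₁U : IsPullback a₁U r₁U p₁ j) {m₁U : A₁V ⟶ A₁U} {m₁Y : A₁V ⟶ A₁Y}
    (h₁V : IsPullback m₁U m₁Y a₁U a₁Y) (p₂ : X₂ ⟶ X) (hp₂ : IsSeparatedMor p₂) (γ : A₁U ⟶ X₂) (β : A₁Y ⟶ X₂)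
    (hβ : β ≫ p₂ = a₁Y ≫ p₁) (hγβ : m₁U ≫ γ = m₁Y ≫ β) {T₁ T₂ : Sp S} (hT₁ : IsAlgSpace T₁) (hT₂ : IsAlgSpace T₂)
    (u : T₁ ⟶ A₁Y) (hu : LocP @Flat u) (hπ : LocP @Flat (u ≫ a₁Y)) (v : T₂ ⟶ A₁Y) {V : Sp S} (y : V ⟶ T₁)
    (y' : V ⟶ T₂) (hy : y ≫ u ≫ a₁Y = y' ≫ v ≫ a₁Y) : y ≫ u ≫ β = y' ≫ v ≫ β := by
  suffices H : pullback.fst (u ≫ a₁Y) (v ≫ a₁Y) ≫ u ≫ β = pullback.snd (u ≫ a₁Y) (v ≫ a₁Y) ≫ v ≫ β by
    have := congrArg (pullback.lift y y' hy ≫ ·) H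
    simpa only [pullback.lift_fst_assoc, pullback.lift_snd_assoc] using this
  let σ : pullback (u ≫ a₁Y) (v ≫ a₁Y) ⟶ T₂ := pullback.snd _ _
  let m : pullback u v ⟶ pullback (u ≫ a₁Y) (v ≫ a₁Y) := pullback.mapDesc u v a₁Y
  have hm : Representable m :=
    MorphismProperty.of_isPullback (P := Representable) (pullback_map_diagonal_isPullback u v a₁Y)
      (representable_diagonal hA a₁Y)
  have hmσ : m ≫ σ = pullback.snd u v := (pullback.lift_snd _ _ _).trans (Category.comp_id _)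
  have hm₁ : m ≫ pullback.fst (u ≫ a₁Y) (v ≫ a₁Y) = pullback.fst u v :=
    (pullback.lift_fst _ _ _).trans (Category.comp_id _)
  refine eq_of_glue (isAlgSpace_pullback hT₁ hT₂ hX₁ _ _) hT₂ hX σ
    (locP_of_isPullback (IsPullback.of_hasPullback _ _) hT₁ hX₁ hT₂ hπ) m hm
    (hmσ ▸ locP_of_isPullback (IsPullback.of_hasPullback u v) hT₁ hA hT₂ hu) (v ≫ a₁Y ≫ p₁) hi hifp hj hU
    (fun W w z e => ?_) _ _ p₂ hp₂ ?_ ?_ fun W w z e => ?_
  · have e₁ : ∀ x : (yon S).obj W ⟶ A₁Y, x ≫ a₁Y = (w ≫ σ) ≫ v ≫ a₁Y →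
        x ≫ r₁Y = z ≫ inv fZ ≫ iY := by
      intro x hx
      have h : (x ≫ r₁Y) ≫ f = z ≫ i := by
        rw [Category.assoc, ← h₁Y.w, ← Category.assoc, hx, ← e]
        simp only [Category.assoc]
      have hz : hFZ.lift (x ≫ r₁Y) z h = z ≫ inv fZ := by
        rw [← cancel_mono fZ, hFZ.lift_snd, Category.assoc, IsIso.inv_hom_id, Category.comp_id]
      rw [← hFZ.lift_fst (x ≫ r₁Y) z h, hz, Category.assoc]
    have ea : (w ≫ pullback.fst _ _ ≫ u) ≫ a₁Y = (w ≫ σ) ≫ v ≫ a₁Y := by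
      simp only [σ, Category.assoc, pullback.condition]
    refine ⟨pullback.lift (w ≫ pullback.fst _ _) (w ≫ σ) ?_, pullback.hom_ext ?_ ?_⟩
    · refine h₁Y.hom_ext ?_ ?_
      · rw [Category.assoc, Category.assoc, pullback.condition]
        simp only [σ, Category.assoc]
      · rw [e₁ _ (by rw [Category.assoc w]; exact ea), e₁ _ (by rw [Category.assoc (w ≫ σ)])]
    · rw [Category.assoc, hm₁, pullback.lift_fst]
    · rw [Category.assoc]
      show pullback.lift _ _ _ ≫ m ≫ σ = w ≫ σ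
      rw [hmσ, pullback.lift_snd]
  · simp only [Category.assoc, hβ]
    rw [← Category.assoc u a₁Y p₁, pullback.condition_assoc]
    simp only [Category.assoc]
  · rw [← Category.assoc, hm₁, ← Category.assoc, ← Category.assoc, hmσ, pullback.condition]
    simp only [Category.assoc]
  · -- off `Z` both agree with the value over `U`
    have key : ∀ x : (yon S).obj W ⟶ A₁Y, x ≫ a₁Y = (w ≫ σ) ≫ v ≫ a₁Y →
        x ≫ β = h₁U.lift ((w ≫ σ) ≫ v ≫ a₁Y) z (by rw [← e]; simp only [Category.assoc]) ≫ γ := by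
      intro x hx
      have h := h₁V.lift_fst (h₁U.lift ((w ≫ σ) ≫ v ≫ a₁Y) z (by rw [← e]; simp only [Category.assoc])) x
        (by rw [IsPullback.lift_fst, hx])
      rw [← h, Category.assoc, hγβ, IsPullback.lift_snd_assoc]
    simpa only [Category.assoc] using
      (key ((w ≫ pullback.fst _ _) ≫ u) (by simp only [σ, Category.assoc, pullback.condition])).trans
        (key ((w ≫ pullback.snd _ _) ≫ v) (by simp only [σ, Category.assoc])).symm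

/-- A glueing datum of morphisms to a separated space comes from a unique morphism. -/
theorem exists_unique_glue {S : Scheme.{u}} {X Y Z FZ U : AlgSp.Space S} (f : Y ⟶ X)
    (hqc : IsQuasiCompactMor f.hom) (i : Z ⟶ X) (hi : RepWith @IsClosedImmersion i.hom)
    (hifp : LocP @LocallyOfFinitePresentation i.hom) (iY : FZ ⟶ Y) (fZ : FZ ⟶ Z)
    (hFZ : IsPullback iY.hom fZ.hom f.hom i.hom) [IsIso fZ]
    (hflat : ∀ y ∈ Set.range (Points.map iY.hom), IsFlatAtMor f.hom y) (j : U ⟶ X)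
    (hj : RepWith @IsOpenImmersion j.hom)
    (hU : Set.range (Points.map j.hom) = (Set.range (Points.map i.hom))ᶜ)
    {X₁ X₂ A₁U A₁Y A₁V : Sp S} (hX₁ : IsAlgSpace X₁) (hX₂ : IsAlgSpace X₂) (hAU : IsAlgSpace A₁U)
    (hAY : IsAlgSpace A₁Y) (p₁ : X₁ ⟶ X.obj) (p₂ : X₂ ⟶ X.obj)
    (hp₂ : IsSeparatedMor p₂) {a₁U : A₁U ⟶ X₁} {r₁U : A₁U ⟶ U.obj} (h₁U : IsPullback a₁U r₁U p₁ j.hom)
    {a₁Y : A₁Y ⟶ X₁} {r₁Y : A₁Y ⟶ Y.obj} (h₁Y : IsPullback a₁Y r₁Y p₁ f.hom)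
    {m₁U : A₁V ⟶ A₁U} {m₁Y : A₁V ⟶ A₁Y} (h₁V : IsPullback m₁U m₁Y a₁U a₁Y)
    (γ : A₁U ⟶ X₂) (β : A₁Y ⟶ X₂) (hγ : γ ≫ p₂ = a₁U ≫ p₁) (hβ : β ≫ p₂ = a₁Y ≫ p₁)
    (hγβ : m₁U ≫ γ = m₁Y ≫ β) :
    ∃! a : X₁ ⟶ X₂, a ≫ p₂ = p₁ ∧ a₁U ≫ a = γ ∧ a₁Y ≫ a = β := by
  obtain ⟨ι, W, w, hcov, hfac⟩ := exists_cover hqc hi hifp hFZ hflat j hj hU
  haveI : IsIso fZ.hom := inferInstanceAs (IsIso ((ObjectProperty.ι _).map fZ))
  have hjm : Mono j.hom :=
    AlgSpPts.mono_of_repWith (repWith_mono (fun _ _ g (_ : IsOpenImmersion g) => (inferInstance : Mono g)) _ hj)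
  have hcov' := isFpqcCover_pullback X.property hX₁ (fun k => (W k).property) hcov p₁
  let T : ι → Sp S := fun k => pullback (w k).hom p₁
  let π : ∀ k, T k ⟶ X₁ := fun k => pullback.snd _ _
  have hT : ∀ k, IsAlgSpace (T k) := fun k => isAlgSpace_pullback (W k).property hX₁ X.property _ _
  -- lifts of the members to the two pieces
  have hlifts : ∀ k, (∃ u : T k ⟶ A₁U, u ≫ a₁U = π k) ∨ (∃ u : T k ⟶ A₁Y, LocP @Flat u ∧ u ≫ a₁Y = π k) := by
    intro k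
    rcases hfac k with ⟨l, hl⟩ | ⟨l, hlf, hl⟩
    · exact Or.inl ⟨h₁U.lift (π k) (pullback.fst _ _ ≫ l.hom) (by
        rw [Category.assoc, show l.hom ≫ j.hom = (w k).hom from congrArg (fun m => m.hom) hl, pullback.condition]),
        h₁U.lift_fst _ _ _⟩
    · have e : l.hom ≫ f.hom = (w k).hom := congrArg (fun m => m.hom) hl
      refine Or.inr ⟨h₁Y.lift (π k) (pullback.fst _ _ ≫ l.hom) (by
        rw [Category.assoc, e, pullback.condition]), ?_, h₁Y.lift_fst _ _ _⟩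
      refine locP_of_isPullback (fst := pullback.fst (w k).hom p₁) (f := l.hom) (g := r₁Y) ?_ (W k).property
        Y.property hAY hlf
      refine IsPullback.of_bot ?_ (h₁Y.lift_snd _ _ _).symm h₁Y.flip
      rw [h₁Y.lift_fst, e]
      exact IsPullback.of_hasPullback _ _
  -- the values of the morphism on the members are well defined
  have huU : ∀ {V : Sp S} (x : V ⟶ A₁U) (x' : V ⟶ A₁Y), x ≫ a₁U = x' ≫ a₁Y → x ≫ γ = x' ≫ β := by
    intro V x x' e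
    rw [← h₁V.lift_fst x x' e, Category.assoc, hγβ, h₁V.lift_snd_assoc]
  have huUU : ∀ {V : Sp S} (x x' : V ⟶ A₁U), x ≫ a₁U = x' ≫ a₁U → x = x' := fun x x' e =>
    h₁U.hom_ext e ((cancel_mono j.hom).1 (by rw [Category.assoc, Category.assoc, ← h₁U.w, ← Category.assoc, e,
      Category.assoc]))
  have huY : ∀ k (u : T k ⟶ A₁Y), LocP @Flat u → u ≫ a₁Y = π k → ∀ {T₂ : Sp S} (_ : IsAlgSpace T₂)
      (v : T₂ ⟶ A₁Y) {V : Sp S} (y : V ⟶ T k) (y' : V ⟶ T₂),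
      y ≫ π k = y' ≫ v ≫ a₁Y → y ≫ u ≫ β = y' ≫ v ≫ β := fun k u hu e T₂ hT₂ v V y y' h =>
    eq_of_pieces X.property hAY hX₁ hi hifp hFZ hj hU p₁ h₁Y h₁U h₁V p₂ hp₂ γ β hβ hγβ (hT k) hT₂ u hu
      (e ▸ hcov'.1 k) v y y' (by rw [e]; exact h)
  have hval : ∀ k, ∃ ψ : T k ⟶ X₂, ψ ≫ p₂ = π k ≫ p₁ ∧
      (∀ {V : Sp S} (y : V ⟶ T k) (x : V ⟶ A₁U), y ≫ π k = x ≫ a₁U → y ≫ ψ = x ≫ γ) ∧
      ∀ {T₂ : Sp S} (_ : IsAlgSpace T₂) (v : T₂ ⟶ A₁Y) {V : Sp S} (y : V ⟶ T k) (y' : V ⟶ T₂),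
        y ≫ π k = y' ≫ v ≫ a₁Y → y ≫ ψ = y' ≫ v ≫ β := by
    intro k
    rcases hlifts k with ⟨u, hu⟩ | ⟨u, huf, hu⟩
    · refine ⟨u ≫ γ, by rw [Category.assoc, hγ, ← Category.assoc, hu], fun y x e => ?_, fun {_} _ v {_} y y' e => ?_⟩
      · rw [← Category.assoc, huUU (y ≫ u) x (by rw [Category.assoc, hu, e])]
      · rw [← Category.assoc, ← Category.assoc y' v]
        exact huU _ _ (by rw [Category.assoc, hu, Category.assoc, e])
    · refine ⟨u ≫ β, by rw [Category.assoc, hβ, ← Category.assoc, hu], fun y x e => ?_, fun {_} hT₂ v {_} y y' e => ?_⟩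
      · rw [← Category.assoc]
        exact (huU x (y ≫ u) (by rw [Category.assoc, hu, e])).symm
      · exact huY k u huf hu hT₂ v y y' e
  choose ψ hψp hψU hψY using hval
  obtain ⟨a, ha⟩ := AlgSpFpqc.exists_desc_of_fpqcCover π ψ hX₂ hcov' hX₁ hT fun V k l y y' e => by
    rcases hlifts l with ⟨u, hu⟩ | ⟨u, -, hu⟩
    · rw [hψU k y (y' ≫ u) (by rw [e, Category.assoc, hu]), hψU l y' (y' ≫ u) (by rw [Category.assoc, hu])]
    · rw [hψY k (hT l) u y y' (by rw [e, hu]), hψY l (hT l) u y' y' (by rw [hu])]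
  have hcovU := isFpqcCover_pullback hX₁ hAU hT hcov' a₁U
  have hcovY := isFpqcCover_pullback hX₁ hAY hT hcov' a₁Y
  refine ⟨a, ⟨?_, ?_, ?_⟩, fun b hb => ?_⟩
  · exact AlgSpFpqc.hom_ext_of_fpqcCover π X.property hcov' hX₁ fun k => by rw [← Category.assoc, ha, hψp]
  · refine AlgSpFpqc.hom_ext_of_fpqcCover (fun k => pullback.snd (π k) a₁U) hX₂ hcovU hAU fun k => ?_
    rw [← pullback.condition_assoc, ha]
    exact hψU k _ _ pullback.condition
  · refine AlgSpFpqc.hom_ext_of_fpqcCover (fun k => pullback.snd (π k) a₁Y) hX₂ hcovY hAY fun k => ?_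
    rw [← pullback.condition_assoc, ha]
    have := hψY k hAY (𝟙 A₁Y) (pullback.fst (π k) a₁Y) (pullback.snd _ _) (by rw [Category.id_comp, pullback.condition])
    rwa [Category.id_comp] at this
  · refine AlgSpFpqc.hom_ext_of_fpqcCover π hX₂ hcov' hX₁ fun k => ?_
    rcases hlifts k with ⟨u, hu⟩ | ⟨u, -, hu⟩
    · rw [ha, ← hu, Category.assoc, hb.2.1]
      have := hψU k (𝟙 _) u (by rw [Category.id_comp, hu])
      rw [Category.id_comp] at this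
      exact this.symm
    · rw [ha, ← hu, Category.assoc, hb.2.2]
      have := hψY k (hT k) u (𝟙 _) (𝟙 _) (by rw [hu])
      rw [Category.id_comp, Category.id_comp] at this
      exact this.symm

end Groth.Agent.AlgSpGlue
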