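import Mathlib.AlgebraicGeometry.Morphisms.FinitePresentation
import Mathlib.AlgebraicGeometry.Morphisms.Flat
import Mathlib.AlgebraicGeometry.Morphisms.ClosedImmersion
import Mathlib.RingTheory.Flat.Localization

/-!
# The affine local picture of formal glueing

Let `h : W ⟶ V` be a morphism of affine schemes and `C` a closed subset of `V` such that `h` is flat at
every point over `C`.  Localising `W` at the functions which are `1` modulo the ideal of `h⁻¹ C` gives an
affine scheme flat over `V` still containing every point over `C`.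
-/

set_option autoImplicit false
set_option linter.style.haveILetI false
set_option backward.isDefEq.respectTransparency false
set_option backward.isDefEq.respectTransparency.types false

universe u

open CategoryTheory CategoryTheory.Limits AlgebraicGeometry TopologicalSpace

namespace Groth.Agent.AlgSpGlue

/-- On an affine scheme, membership in a basic open is read on the prime. -/
theorem fromSpec_mem_basicOpen {X : Scheme.{u}} [IsAffine X] (a : Γ(X, ⊤)) (p : PrimeSpectrum Γ(X, ⊤)) :
    (isAffineOpen_top X).fromSpec p ∈ X.basicOpen a ↔ a ∉ p.asIdeal := by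
  show p ∈ (isAffineOpen_top X).fromSpec ⁻¹ᵁ X.basicOpen a ↔ _
  rw [IsAffineOpen.fromSpec_preimage_basicOpen]
  rfl

theorem exists_fromSpec_eq {X : Scheme.{u}} [IsAffine X] (z : ↥X) :
    ∃ p : PrimeSpectrum Γ(X, ⊤), (isAffineOpen_top X).fromSpec p = z :=
  (isAffineOpen_top X).range_fromSpec.ge (Set.mem_univ z)

/-- Flat neighbourhood of the points over a closed subset. -/
theorem exists_flat_localization {W V : Scheme.{u}} [IsAffine W] [IsAffine V] (h : W ⟶ V) {C : Set ↥V}
    (hC : IsClosed C) (hflat : ∀ w : ↥W, h w ∈ C → (h.stalkMap w).hom.Flat) :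
    ∃ (T : Scheme.{u}) (t : T ⟶ W), IsAffine T ∧ Flat t ∧ Flat (t ≫ h) ∧ ∀ w : ↥W, h w ∈ C → w ∈ Set.range t := by
  let J : Ideal Γ(W, ⊤) := Ideal.span (h.appTop '' {a | ∀ z ∈ C, z ∉ V.basicOpen a})
  let M : Submonoid Γ(W, ⊤) :=
    { carrier := {s | s - 1 ∈ J}
      one_mem' := by simp
      mul_mem' := fun {a b} ha hb => by
        show a * b - 1 ∈ J
        have : a * b - 1 = a * (b - 1) + (a - 1) := by ring
        rw [this]
        exact add_mem (J.mul_mem_left a hb) ha }
  let B' := Localization M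
  let t : Spec (CommRingCat.of B') ⟶ W :=
    Spec.map (CommRingCat.ofHom (algebraMap Γ(W, ⊤) B')) ≫ (isAffineOpen_top W).fromSpec
  -- a prime over `C` contains the ideal of `h⁻¹ C`
  have hJ : ∀ q : PrimeSpectrum Γ(W, ⊤), h ((isAffineOpen_top W).fromSpec q) ∈ C → J ≤ q.asIdeal := by
    intro q hq
    rw [Ideal.span_le]
    rintro _ ⟨a, ha, rfl⟩
    by_contra hn
    rw [SetLike.mem_coe, ← fromSpec_mem_basicOpen, ← Scheme.preimage_basicOpen_top] at hn
    exact ha _ hq hn
  have hM : ∀ q : PrimeSpectrum Γ(W, ⊤), J ≤ q.asIdeal → Disjoint (M : Set Γ(W, ⊤)) q.asIdeal := fun q hq =>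
    Set.disjoint_left.2 fun s hs hsq => q.isPrime.ne_top ((Ideal.eq_top_iff_one _).2
      (by simpa using sub_mem hsq (hq hs)))
  refine ⟨Spec (CommRingCat.of B'), t, inferInstance, ?_, ?_, fun w hw => ?_⟩
  · haveI : Flat (Spec.map (CommRingCat.ofHom (algebraMap Γ(W, ⊤) B'))) :=
      (HasRingHomProperty.Spec_iff (P := @Flat)).2 (RingHom.flat_algebraMap_iff.2 (IsLocalization.flat B' M))
    haveI : IsOpenImmersion (isAffineOpen_top W).fromSpec := inferInstance
    exact inferInstanceAs (Flat (_ ≫ _))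
  swap
  · obtain ⟨q, rfl⟩ := exists_fromSpec_eq w
    obtain ⟨p, hp⟩ : q ∈ Set.range (PrimeSpectrum.comap (algebraMap Γ(W, ⊤) B')) := by
      rw [PrimeSpectrum.localization_comap_range B' M]
      exact hM q (hJ q hw)
    exact ⟨p, congrArg (isAffineOpen_top W).fromSpec hp⟩
  -- flatness can be checked at maximal ideals, which lie over `C`
  letI : Algebra Γ(V, ⊤) Γ(W, ⊤) := h.appTop.hom.toAlgebra
  haveI : Module.Flat Γ(V, ⊤) B' := by
    refine Module.flat_of_isLocalized_maximal B' B' (R := Γ(V, ⊤)) (fun P _ => Localization.AtPrime P)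
      (fun P _ => Algebra.linearMap B' (Localization.AtPrime P)) fun P hP => ?_
    let q : PrimeSpectrum Γ(W, ⊤) := PrimeSpectrum.comap (algebraMap Γ(W, ⊤) B') ⟨P, hP.isPrime⟩
    have hJq : J ≤ q.asIdeal := fun x hx => by
      have hu : ∀ y, IsUnit (1 + algebraMap Γ(W, ⊤) B' x * y) := by
        intro y
        obtain ⟨⟨c, s⟩, hcs⟩ := IsLocalization.surj M y
        have h1 : ((s : Γ(W, ⊤)) + x * c) ∈ M := by
          show _ - 1 ∈ J
          rw [show (s : Γ(W, ⊤)) + x * c - 1 = ((s : Γ(W, ⊤)) - 1) + x * c by ring]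
          exact add_mem s.2 (J.mul_mem_right c hx)
        have h2 := IsLocalization.map_units B' (⟨_, h1⟩ : M)
        have he : algebraMap Γ(W, ⊤) B' ((s : Γ(W, ⊤)) + x * c) =
            (1 + algebraMap Γ(W, ⊤) B' x * y) * algebraMap Γ(W, ⊤) B' s := by
          rw [map_add, map_mul, ← hcs]
          ring
        exact isUnit_of_mul_isUnit_left (he ▸ h2)
      show algebraMap Γ(W, ⊤) B' x ∈ P
      by_contra hxP
      obtain ⟨y, i, hi, hyi⟩ := hP.exists_inv hxP
      have := hu (-y)
      rw [show 1 + algebraMap Γ(W, ⊤) B' x * -y = i by linear_combination -hyi] at this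
      exact hP.ne_top (Ideal.eq_top_of_isUnit_mem _ hi this)
    have hw : h ((isAffineOpen_top W).fromSpec q) ∈ C := by
      by_contra hn
      obtain ⟨_, ⟨U, hU, rfl⟩, hzU, hUC⟩ := V.isBasis_affineOpens.exists_subset_of_mem_open hn hC.isOpen_compl
      obtain ⟨a, haU, hza⟩ := (isAffineOpen_top V).exists_basicOpen_le (V := U)
        ⟨h ((isAffineOpen_top W).fromSpec q), hzU⟩ trivial
      have := hJq (Ideal.subset_span ⟨a, fun z hz hza' => hUC (haU hza') hz, rfl⟩)
      exact (fromSpec_mem_basicOpen _ q).1 (by rw [← Scheme.preimage_basicOpen_top]; exact hza) this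
    let w := (isAffineOpen_top W).fromSpec q
    letI : Algebra Γ(W, ⊤) (W.presheaf.stalk w) := TopCat.Presheaf.algebra_section_stalk W.presheaf (U := ⊤) ⟨w, trivial⟩
    haveI : IsLocalization.AtPrime (W.presheaf.stalk w) q.asIdeal :=
      (isAffineOpen_top W).isLocalization_stalk' q trivial
    haveI : IsLocalization.AtPrime (Localization.AtPrime P) q.asIdeal :=
      IsLocalization.isLocalization_isLocalization_atPrime_isLocalization M (Localization.AtPrime P) P
    let e := IsLocalization.algEquiv q.asIdeal.primeCompl (W.presheaf.stalk w) (Localization.AtPrime P)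
    letI : Algebra Γ(V, ⊤) (W.presheaf.stalk w) :=
      ((algebraMap Γ(W, ⊤) (W.presheaf.stalk w)).comp h.appTop.hom).toAlgebra
    haveI : Module.Flat Γ(V, ⊤) (W.presheaf.stalk w) := by
      have hc : algebraMap Γ(V, ⊤) (W.presheaf.stalk w) =
          (h.stalkMap w).hom.comp (V.presheaf.germ ⊤ (h w) trivial).hom := by
        refine RingHom.ext fun a => ?_
        exact (Scheme.Hom.germ_stalkMap_apply h ⊤ w trivial a).symm
      have hg : (V.presheaf.germ ⊤ (h w) trivial).hom.Flat := by
        letI : Algebra Γ(V, ⊤) (V.presheaf.stalk (h w)) := TopCat.Presheaf.algebra_section_stalk V.presheaf (U := ⊤) ⟨h w, trivial⟩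
        haveI := (isAffineOpen_top V).isLocalization_stalk ⟨h w, trivial⟩
        exact IsLocalization.flat (V.presheaf.stalk (h w)) ((isAffineOpen_top V).primeIdealOf ⟨h w, trivial⟩).asIdeal.primeCompl
      show (algebraMap Γ(V, ⊤) (W.presheaf.stalk w)).Flat
      rw [hc]
      exact hg.comp (hflat w hw)
    refine Module.Flat.of_linearEquiv (M := W.presheaf.stalk w)
      ({ e.toRingEquiv.toAddEquiv.symm with map_smul' := fun a x => ?_ } :
        Localization.AtPrime P ≃ₗ[Γ(V, ⊤)] W.presheaf.stalk w)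
    show e.symm (a • x) = a • e.symm x
    rw [Algebra.smul_def, Algebra.smul_def, map_mul]
    congr 1
    show e.symm (algebraMap Γ(V, ⊤) (Localization.AtPrime P) a) = algebraMap Γ(W, ⊤) _ (h.appTop a)
    rw [show algebraMap Γ(V, ⊤) (Localization.AtPrime P) a =
      algebraMap Γ(W, ⊤) (Localization.AtPrime P) (h.appTop a) from rfl, e.symm.commutes]
  refine (HasRingHomProperty.iff_of_isAffine (P := @Flat)).2 ?_
  rw [Scheme.Hom.comp_appTop]
  have e : (h.appTop ≫ t.appTop).hom =
      (Scheme.ΓSpecIso (CommRingCat.of B')).inv.hom.comp (algebraMap Γ(V, ⊤) B') := by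
    ext a
    show t.appTop (h.appTop a) = (Scheme.ΓSpecIso (CommRingCat.of B')).inv (algebraMap Γ(W, ⊤) B' (h.appTop a))
    have h' : (isAffineOpen_top W).fromSpec.appTop = (Scheme.ΓSpecIso Γ(W, ⊤)).inv := by
      show (isAffineOpen_top W).fromSpec.app ⊤ = _
      rw [IsAffineOpen.fromSpec_app_self]
      exact (congrArg ((Scheme.ΓSpecIso Γ(W, ⊤)).inv ≫ ·) ((Spec Γ(W, ⊤)).presheaf.map_id _)).trans (Category.comp_id _)
    rw [Scheme.Hom.comp_appTop, CommRingCat.comp_apply, h']
    exact (ConcreteCategory.congr_hom (Scheme.ΓSpecIso_inv_naturality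
      (CommRingCat.ofHom (algebraMap Γ(W, ⊤) B'))) (h.appTop a)).symm
  rw [e]
  exact RingHom.Flat.comp (RingHom.flat_algebraMap_iff.2 inferInstance)
    (RingHom.Flat.of_bijective (ConcreteCategory.bijective_of_isIso (Scheme.ΓSpecIso (CommRingCat.of B')).inv))

/-- The complement of a finitely presented closed immersion into an affine scheme is quasi-compact. -/
theorem isCompact_compl_range {Z V : Scheme.{u}} [IsAffine V] (i : Z ⟶ V) [IsClosedImmersion i]
    [LocallyOfFinitePresentation i] : IsCompact (Set.range i)ᶜ := by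
  obtain ⟨hZ, hs⟩ := IsClosedImmersion.isAffine_surjective_of_isAffine i
  have hfp : i.appTop.hom.FinitePresentation :=
    HasRingHomProperty.appTop (P := @LocallyOfFinitePresentation) i inferInstance
  letI : Algebra Γ(V, ⊤) Γ(Z, ⊤) := i.appTop.hom.toAlgebra
  haveI : Algebra.FinitePresentation Γ(V, ⊤) Γ(Z, ⊤) := hfp
  obtain ⟨g, hg⟩ := Algebra.FinitePresentation.ker_fG_of_surjective (A := Γ(V, ⊤)) (R := Γ(V, ⊤))
    (Algebra.ofId Γ(V, ⊤) Γ(Z, ⊤)) hs
  have e : (Set.range i)ᶜ = ⋃ a ∈ g, (V.basicOpen a : Set ↥V) := by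
    apply le_antisymm
    · intro z hz
      obtain ⟨_, ⟨U, hU, rfl⟩, hzU, hUC⟩ :=
        V.isBasis_affineOpens.exists_subset_of_mem_open hz i.isClosedEmbedding.isClosed_range.isOpen_compl
      obtain ⟨a, haU, hza⟩ := (isAffineOpen_top V).exists_basicOpen_le (V := U) ⟨z, hzU⟩ trivial
      have hbot : Z.basicOpen (i.appTop a) = ⊥ := by
        rw [← Scheme.preimage_basicOpen_top]
        refine le_bot_iff.1 fun x hx => hUC (haU hx) ⟨x, rfl⟩
      obtain ⟨n, hn⟩ := (Scheme.isNilpotent_iff_basicOpen_eq_bot (X := Z) (i.appTop a)).2 hbot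
      obtain ⟨q, rfl⟩ := exists_fromSpec_eq z
      by_contra hnot
      have hker : a ^ n ∈ q.asIdeal := by
        have h1 : a ^ n ∈ RingHom.ker (Algebra.ofId Γ(V, ⊤) Γ(Z, ⊤)).toRingHom := by
          rw [RingHom.mem_ker]
          exact (map_pow i.appTop.hom a n).trans hn
        rw [← hg] at h1
        refine Ideal.span_le.2 (fun c hc => ?_) h1
        by_contra hcq
        exact hnot (Set.mem_iUnion₂.2 ⟨c, hc, (fromSpec_mem_basicOpen c q).2 hcq⟩)
      exact (fromSpec_mem_basicOpen a q).1 hza (q.isPrime.mem_of_pow_mem n hker)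
    · intro z hz
      obtain ⟨a, ha, hza⟩ := Set.mem_iUnion₂.1 hz
      rintro ⟨x, rfl⟩
      have h0 : i.appTop a = 0 := by
        have h1 : a ∈ RingHom.ker (Algebra.ofId Γ(V, ⊤) Γ(Z, ⊤)).toRingHom := hg ▸ Ideal.subset_span ha
        exact RingHom.mem_ker.1 h1
      have : x ∈ i ⁻¹ᵁ V.basicOpen a := hza
      rw [Scheme.preimage_basicOpen_top, h0, Scheme.basicOpen_zero] at this
      exact this
  rw [e]
  exact g.finite_toSet.isCompact_biUnion fun a _ => ((isAffineOpen_top V).basicOpen a).isCompact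

end Groth.Agent.AlgSpGlue
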