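import Mathlib.RingTheory.Flat.Basic
import Mathlib.RingTheory.TensorProduct.Quotient
import Mathlib.LinearAlgebra.TensorProduct.RightExactness
import Mathlib.LinearAlgebra.TensorProduct.Pi

/-!
# Torsion of flat algebras with the same reduction

Let `M` and `R` be flat over `A` and `φ : M → R` have a left inverse modulo an ideal `I`.  Then no non-zero
element of `M` killed by a power of `I` dies in `R`.
-/

set_option autoImplicit false

universe u

open TensorProduct

namespace Groth.Agent.AlgSpGlue

variable {A : Type u} [CommRing A] (I : Ideal A) {M R : Type u} [AddCommGroup M] [Module A M] [AddCommGroup R]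
  [Module A R]

/-- Tensoring with a module killed by `I` does not see the elements of `I • M`. -/
theorem lTensor_mkQ_injective (N : Type u) [AddCommGroup N] [Module A N] (hN : ∀ i ∈ I, ∀ n : N, i • n = 0) :
    Function.Injective ((I • (⊤ : Submodule A M)).mkQ.lTensor N) := by
  rw [injective_iff_map_eq_zero]
  intro z hz
  obtain ⟨w, rfl⟩ := ((lTensor_exact N (LinearMap.exact_subtype_mkQ (I • (⊤ : Submodule A M)))
    (Submodule.mkQ_surjective _)) z).1 hz
  induction w with
  | zero => rw [map_zero]
  | add a b ha hb =>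
    have ha' := ha (by rw [← LinearMap.comp_apply, ← LinearMap.lTensor_comp,
      show (I • (⊤ : Submodule A M)).mkQ ∘ₗ (I • (⊤ : Submodule A M)).subtype = 0 from
        LinearMap.ext fun y => (Submodule.Quotient.mk_eq_zero _).2 y.2]; simp)
    have hb' := hb (by rw [← LinearMap.comp_apply, ← LinearMap.lTensor_comp,
      show (I • (⊤ : Submodule A M)).mkQ ∘ₗ (I • (⊤ : Submodule A M)).subtype = 0 from
        LinearMap.ext fun y => (Submodule.Quotient.mk_eq_zero _).2 y.2]; simp)
    rw [map_add, ha', hb', add_zero]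
  | tmul n y =>
    obtain ⟨y, hy⟩ := y
    show n ⊗ₜ[A] y = 0
    refine Submodule.smul_induction_on hy (fun i hi m _ => ?_) fun a b ha hb => by rw [tmul_add, ha, hb, add_zero]
    rw [← smul_tmul, hN i hi n, zero_tmul]

variable [Module.Flat A M] [Module.Flat A R] (φ : M →ₗ[A] R) (γ : R →ₗ[A] (M ⧸ I • (⊤ : Submodule A M)))
  (hγ : ∀ m, γ (φ m) = Submodule.Quotient.mk m)

include hγ in
/-- The case of elements killed by `I`. -/
theorem eq_zero_of_smul_eq_zero (s : Finset A) (hs : Ideal.span (s : Set A) = I) {x : M}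
    (hx : ∀ i ∈ I, i • x = 0) (hφ : φ x = 0) : x = 0 := by
  classical
  let d : A →ₗ[A] (s → A) := LinearMap.pi fun i => LinearMap.mulLeft A i.1
  let N := LinearMap.ker d
  have hN : ∀ i ∈ I, ∀ n : N, i • n = 0 := by
    intro i hi n
    rw [← hs] at hi
    refine Submodule.span_induction (fun a ha => ?_) (zero_smul _ n)
      (fun a b _ _ ha hb => by rw [add_smul, ha, hb, add_zero])
      (fun a b _ hb => by rw [smul_assoc, hb, smul_zero]) hi
    exact Subtype.ext (congrFun (show d n.1 = 0 from n.2) ⟨a, ha⟩)
  have hex : Function.Exact N.subtype d := LinearMap.exact_subtype_ker_map d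
  let e := TensorProduct.rid A M
  have h0 : d.lTensor M (e.symm x) = 0 := by
    have hd : ∀ m : M, (TensorProduct.piRight A A M (fun _ : s => A)) (d.lTensor M (m ⊗ₜ[A] (1 : A))) =
        fun i => m ⊗ₜ[A] (i.1 : A) := fun m => by
      funext i
      simp [d]
    apply (TensorProduct.piRight A A M (fun _ : s => A)).injective
    rw [show e.symm x = x ⊗ₜ[A] (1 : A) from TensorProduct.rid_symm_apply x, hd, map_zero]
    funext i
    rw [show x ⊗ₜ[A] (i.1 : A) = x ⊗ₜ[A] ((i.1 : A) • (1 : A)) by rw [smul_eq_mul, mul_one], ← smul_tmul,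
      hx i.1 (hs ▸ Ideal.subset_span i.2), zero_tmul]
    rfl
  obtain ⟨z, hz⟩ := ((Module.Flat.lTensor_exact M hex) _).1 h0
  have h1 : φ.rTensor N z = 0 := by
    apply Module.Flat.lTensor_preserves_injective_linearMap (M := R) N.subtype N.injective_subtype
    rw [map_zero, ← LinearMap.comp_apply, LinearMap.lTensor_comp_rTensor, ← LinearMap.rTensor_comp_lTensor,
      LinearMap.comp_apply, hz, TensorProduct.rid_symm_apply, LinearMap.rTensor_tmul, hφ, zero_tmul]
  have h2 : (I • (⊤ : Submodule A M)).mkQ.rTensor N z = 0 := by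
    rw [show (I • (⊤ : Submodule A M)).mkQ = γ ∘ₗ φ from LinearMap.ext fun m => (hγ m).symm,
      LinearMap.rTensor_comp, LinearMap.comp_apply, h1, map_zero]
  have h3 : z = 0 := by
    apply (TensorProduct.comm A M N).injective
    rw [map_zero]
    apply lTensor_mkQ_injective I N hN
    rw [map_zero]
    have hcomm : ∀ w : M ⊗[A] N, (I • (⊤ : Submodule A M)).mkQ.lTensor N (TensorProduct.comm A M N w) =
        TensorProduct.comm A (M ⧸ I • (⊤ : Submodule A M)) N ((I • (⊤ : Submodule A M)).mkQ.rTensor N w) := by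
      intro w
      induction w with
      | zero => simp
      | tmul m n => simp
      | add a b ha hb => simp only [map_add, ha, hb]
    rw [hcomm, h2, map_zero]
  rw [h3, map_zero] at hz
  exact (e.symm.map_eq_zero_iff).1 hz.symm

include hγ in
/-- Elements killed by a power of `I` which die in `R` vanish. -/
theorem eq_zero_of_pow_smul_eq_zero (hI : I.FG) (n : ℕ) {x : M} (hx : ∀ i ∈ I ^ n, i • x = 0) (hφ : φ x = 0) :
    x = 0 := by
  obtain ⟨s, hs⟩ := hI
  induction n generalizing x with
  | zero => simpa using hx 1 (by simp)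
  | succ n ih =>
    refine eq_zero_of_smul_eq_zero I φ γ hγ s hs (fun i hi => ih (fun j hj => ?_) (by rw [map_smul, hφ, smul_zero])) hφ
    rw [smul_smul]
    exact hx _ (by rw [pow_succ]; exact Ideal.mul_mem_mul hj hi)

end Groth.Agent.AlgSpGlue
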