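import Groth.Agent.AlgSpGlue.Local
import Groth.Agent.AlgSpGlue.Torsion
import Mathlib.AlgebraicGeometry.Stalk
import Mathlib.RingTheory.Finiteness.Ideal

/-!
# A closed subscheme containing the complement and a formal neighbourhood of a closed set

Let `V` be affine, `C ⊆ V` closed and finitely presented, `Q ⟶ V` flat and `φ : P ⟶ Q` with `P` flat over
`V` such that every morphism to `Q` lying over `C` lifts to `P`.  A closed subscheme of `Q` containing
`Q ∖ C` and receiving `P` is everything.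
-/

set_option linter.style.haveILetI false
set_option autoImplicit false
set_option backward.isDefEq.respectTransparency false
set_option backward.isDefEq.respectTransparency.types false
set_option maxHeartbeats 1000000

universe u

open CategoryTheory CategoryTheory.Limits AlgebraicGeometry TopologicalSpace

namespace Groth.Agent.AlgSpGlue

/-- A morphism into an affine scheme along which the ideal of a closed subscheme vanishes factors through it. -/
theorem exists_factor_closed {C V R : Scheme.{u}} [IsAffine V] (i : C ⟶ V) [IsClosedImmersion i] (g : R ⟶ V)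
    (h : RingHom.ker i.appTop.hom ≤ RingHom.ker g.appTop.hom) : ∃ c : R ⟶ C, c ≫ i = g := by
  obtain ⟨hC, hs⟩ := IsClosedImmersion.isAffine_surjective_of_isAffine i
  let γ : Γ(C, ⊤) →+* Γ(R, ⊤) := RingHom.liftOfSurjective i.appTop.hom hs ⟨g.appTop.hom, h⟩
  refine ⟨R.toSpecΓ ≫ Spec.map (CommRingCat.ofHom γ) ≫ C.isoSpec.inv, ?_⟩
  have e : i.appTop ≫ CommRingCat.ofHom γ = g.appTop :=
    CommRingCat.hom_ext (RingHom.liftOfRightInverse_comp i.appTop.hom (Function.surjInv hs)
      (Function.rightInverse_surjInv hs) ⟨g.appTop.hom, h⟩)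
  rw [Category.assoc, Category.assoc, ← Scheme.isoSpec_inv_naturality, ← Spec.map_comp_assoc, e,
    ← Scheme.toSpecΓ_naturality_assoc, Scheme.toSpecΓ_isoSpec_inv, Category.comp_id]

variable {V C Q P E : Scheme.{u}} [IsAffine V] (i : C ⟶ V) [IsClosedImmersion i] (π : Q ⟶ V) [Flat π] (φ : P ⟶ Q)
  [Flat (φ ≫ π)]
  (hlift : ∀ (R : Scheme.{u}) (g : R ⟶ Q) (c : R ⟶ C), g ≫ π = c ≫ i → ∃ l : R ⟶ P, l ≫ φ = g)

include hlift in
/-- Over `C`, elements killed by powers of the ideal of `C` which die on `P` vanish. -/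
theorem exists_point_over {q : ↥Q} (hq : π q ∈ Set.range i) :
    ∃ p : ↥P, φ p = q ∧ ∀ (n : ℕ) (x : Q.presheaf.stalk (φ p)), (RingHom.ker i.appTop.hom).FG →
      (∀ a ∈ RingHom.ker i.appTop.hom ^ n, Q.presheaf.germ ⊤ (φ p) trivial (π.appTop a) * x = 0) →
      φ.stalkMap p x = 0 → x = 0 := by
  let I := RingHom.ker i.appTop.hom
  let σ : Γ(V, ⊤) →+* Q.presheaf.stalk q := (Q.presheaf.germ ⊤ q trivial).hom.comp π.appTop.hom
  let J : Ideal (Q.presheaf.stalk q) := I.map σ
  have hJ : J ≠ ⊤ := by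
    refine ne_top_of_le_ne_top (IsLocalRing.maximalIdeal.isMaximal _).ne_top (Ideal.map_le_iff_le_comap.2 fun a ha => ?_)
    show σ a ∈ IsLocalRing.maximalIdeal _
    rw [IsLocalRing.mem_maximalIdeal, mem_nonunits_iff]
    intro hu
    obtain ⟨c, hc⟩ := hq
    have hqa : q ∈ Q.basicOpen (π.appTop a) := (Q.mem_basicOpen_top _ q).2 hu
    rw [← Scheme.preimage_basicOpen_top] at hqa
    have hca : c ∈ i ⁻¹ᵁ V.basicOpen a := by show i c ∈ V.basicOpen a; rw [hc]; exact hqa
    rw [Scheme.preimage_basicOpen_top, show i.appTop a = 0 from ha, Scheme.basicOpen_zero] at hca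
    exact hca
  haveI : Nontrivial (Q.presheaf.stalk q ⧸ J) := Ideal.Quotient.nontrivial_iff.2 hJ
  haveI : IsLocalRing (Q.presheaf.stalk q ⧸ J) := IsLocalRing.of_surjective' _ Ideal.Quotient.mk_surjective
  haveI : IsLocalHom (Ideal.Quotient.mk J) :=
    IsLocalHom.of_surjective _ Ideal.Quotient.mk_surjective
  let g : Spec (CommRingCat.of (Q.presheaf.stalk q ⧸ J)) ⟶ Q :=
    Spec.map (CommRingCat.ofHom (Ideal.Quotient.mk J)) ≫ Q.fromSpecStalk q
  haveI : IsLocalHom (CommRingCat.ofHom (Ideal.Quotient.mk J) : Q.presheaf.stalk q ⟶ CommRingCat.of _).hom := ‹_›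
  have hg₀ : g (IsLocalRing.closedPoint _) = q := by
    show Q.fromSpecStalk q (Spec.map (CommRingCat.ofHom (Ideal.Quotient.mk J)) _) = q
    rw [show Spec.map (CommRingCat.ofHom (Ideal.Quotient.mk J)) (IsLocalRing.closedPoint _) =
      IsLocalRing.closedPoint _ from IsLocalRing.comap_closedPoint _, Scheme.fromSpecStalk_closedPoint]
  have hgI : RingHom.ker i.appTop.hom ≤ RingHom.ker (g ≫ π).appTop.hom := by
    intro a ha
    rw [RingHom.mem_ker]
    apply (ConcreteCategory.bijective_of_isIso (Scheme.ΓSpecIso (CommRingCat.of (Q.presheaf.stalk q ⧸ J))).hom).1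
    rw [map_zero]
    have h1 : (Q.fromSpecStalk q).appTop = Q.presheaf.germ ⊤ q trivial ≫ (Scheme.ΓSpecIso _).inv := by
      rw [Scheme.fromSpecStalk_appTop]
      simp
    show (Scheme.ΓSpecIso _).hom ((Spec.map (CommRingCat.ofHom (Ideal.Quotient.mk J))).appTop
      ((Q.fromSpecStalk q).appTop (π.appTop a))) = 0
    rw [h1, CommRingCat.comp_apply, ← CommRingCat.comp_apply _ (Scheme.ΓSpecIso _).hom,
      Scheme.ΓSpecIso_naturality, CommRingCat.comp_apply]
    show Ideal.Quotient.mk J ((Scheme.ΓSpecIso (Q.presheaf.stalk q)).hom ((Scheme.ΓSpecIso (Q.presheaf.stalk q)).inv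
      (σ a))) = 0
    rw [Iso.inv_hom_id_apply]
    exact Ideal.Quotient.eq_zero_iff_mem.2 (Ideal.mem_map_of_mem σ ha)
  obtain ⟨c, hc⟩ := exists_factor_closed i (g ≫ π) hgI
  obtain ⟨l, hl⟩ := hlift _ g c hc.symm
  let p := l (IsLocalRing.closedPoint (Q.presheaf.stalk q ⧸ J))
  have hp : φ p = q := by rw [← hg₀, ← hl]; rfl
  refine ⟨p, hp, fun n x hI hx hφx => ?_⟩
  letI algM : Algebra Γ(V, ⊤) (Q.presheaf.stalk (φ p)) :=
    ((Q.presheaf.germ ⊤ (φ p) trivial).hom.comp π.appTop.hom).toAlgebra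
  letI algR : Algebra Γ(V, ⊤) (P.presheaf.stalk p) :=
    ((φ.stalkMap p).hom.comp (algebraMap Γ(V, ⊤) (Q.presheaf.stalk (φ p)))).toAlgebra
  have hgermV : (V.presheaf.germ ⊤ (π (φ p)) trivial).hom.Flat := by
    letI : Algebra Γ(V, ⊤) (V.presheaf.stalk (π (φ p))) :=
      TopCat.Presheaf.algebra_section_stalk V.presheaf (U := ⊤) ⟨π (φ p), trivial⟩
    haveI := (isAffineOpen_top V).isLocalization_stalk ⟨π (φ p), trivial⟩
    exact IsLocalization.flat (V.presheaf.stalk (π (φ p)))
      ((isAffineOpen_top V).primeIdealOf ⟨π (φ p), trivial⟩).asIdeal.primeCompl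
  have hM : algebraMap Γ(V, ⊤) (Q.presheaf.stalk (φ p)) =
      (π.stalkMap (φ p)).hom.comp (V.presheaf.germ ⊤ (π (φ p)) trivial).hom :=
    RingHom.ext fun a => (Scheme.Hom.germ_stalkMap_apply π ⊤ (φ p) trivial a).symm
  haveI : Module.Flat Γ(V, ⊤) (Q.presheaf.stalk (φ p)) := by
    rw [← RingHom.flat_algebraMap_iff, hM]
    exact hgermV.comp (Flat.stalkMap π (φ p))
  haveI : Module.Flat Γ(V, ⊤) (P.presheaf.stalk p) := by
    rw [← RingHom.flat_algebraMap_iff]
    show ((φ.stalkMap p).hom.comp (algebraMap Γ(V, ⊤) (Q.presheaf.stalk (φ p)))).Flat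
    rw [hM, ← RingHom.comp_assoc]
    have := hgermV.comp (Flat.stalkMap (φ ≫ π) p)
    rwa [Scheme.Hom.stalkMap_comp, CommRingCat.hom_comp] at this
  let J' : Ideal (Q.presheaf.stalk (φ p)) := I.map (algebraMap Γ(V, ⊤) _)
  let t : Q.presheaf.stalk (φ p) ⟶ Q.presheaf.stalk q := Q.presheaf.stalkSpecializes (Inseparable.of_eq hp).specializes'
  haveI : IsIso t := (Q.presheaf.stalkCongr (.of_eq hp)).isIso_hom
  have htσ : ∀ a, t (algebraMap Γ(V, ⊤) (Q.presheaf.stalk (φ p)) a) = σ a := fun a =>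
    Q.presheaf.germ_stalkSpecializes_apply _ _ _
  let e : Q.presheaf.stalk (φ p) ≃+* Q.presheaf.stalk q := (asIso t).commRingCatIsoToRingEquiv
  have hJ' : J' = J.comap t.hom := by
    show I.map (algebraMap Γ(V, ⊤) (Q.presheaf.stalk (φ p))) = (I.map σ).comap t.hom
    rw [show σ = t.hom.comp (algebraMap Γ(V, ⊤) (Q.presheaf.stalk (φ p))) from RingHom.ext fun a => (htσ a).symm,
      ← Ideal.map_map]
    exact (Ideal.comap_map_of_bijective t.hom (ConcreteCategory.bijective_of_isIso t)).symm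
  -- the section modulo `C`
  let γ : P.presheaf.stalk p →+* Q.presheaf.stalk q ⧸ J :=
    (Scheme.stalkClosedPointTo (R := CommRingCat.of (Q.presheaf.stalk q ⧸ J)) l).hom
  have hγ : ∀ y, γ (φ.stalkMap p y) = Ideal.Quotient.mk J (t y) := by
    intro y
    obtain ⟨U, hU, s, rfl⟩ := Q.presheaf.exists_germ_eq (x := φ p) y
    rw [show t (Q.presheaf.germ U (φ p) hU s) = Q.presheaf.germ U q (hp ▸ hU) s from
      Q.presheaf.germ_stalkSpecializes_apply _ _ _]
    have h2 := ConcreteCategory.congr_hom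
      (Scheme.germ_stalkClosedPointTo_Spec_fromSpecStalk (X := Q) (x := q) (CommRingCat.ofHom (Ideal.Quotient.mk J)) U
        (show g (IsLocalRing.closedPoint _) ∈ U by rw [hg₀, ← hp]; exact hU)) s
    rw [CommRingCat.comp_apply, CommRingCat.comp_apply] at h2
    refine Eq.trans ?_ h2
    show ((φ.stalkMap p) ≫ Scheme.stalkClosedPointTo l) (Q.presheaf.germ U (φ p) hU s) = _
    rw [← Scheme.stalkClosedPointTo_comp]
    have key : ∀ (h : Spec (CommRingCat.of (Q.presheaf.stalk q ⧸ J)) ⟶ Q) (_ : h = g) (m₁ : h (IsLocalRing.closedPoint _) ∈ U)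
        (m₂ : g (IsLocalRing.closedPoint _) ∈ U),
        Scheme.stalkClosedPointTo h (Q.presheaf.germ U _ m₁ s) = Scheme.stalkClosedPointTo g (Q.presheaf.germ U _ m₂ s) := by
      intro h hh m₁ m₂
      subst hh
      rfl
    exact key (l ≫ φ) hl hU _
  let qR : Q.presheaf.stalk q ⧸ J →+* Q.presheaf.stalk (φ p) ⧸ J' :=
    Ideal.quotientMap J' e.symm.toRingHom (fun y hy => by
      show e.symm y ∈ J'
      rw [hJ']
      show t (e.symm y) ∈ J
      rwa [show t (e.symm y) = y from e.apply_symm_apply y])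
  have hqR : ∀ y, qR (γ (φ.stalkMap p y)) = Ideal.Quotient.mk J' y := fun y => by
    rw [hγ, Ideal.quotientMap_mk]
    exact congrArg _ (e.symm_apply_apply y)
  let ψ : Q.presheaf.stalk (φ p) →ₐ[Γ(V, ⊤)] P.presheaf.stalk p := ⟨(φ.stalkMap p).hom, fun _ => rfl⟩
  let γ' : P.presheaf.stalk p →ₐ[Γ(V, ⊤)] Q.presheaf.stalk (φ p) ⧸ J' :=
    ⟨qR.comp γ, fun a => (hqR (algebraMap Γ(V, ⊤) (Q.presheaf.stalk (φ p)) a))⟩
  let Ψ := Submodule.quotEquivOfEq (I • (⊤ : Submodule Γ(V, ⊤) (Q.presheaf.stalk (φ p))))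
    (J'.restrictScalars Γ(V, ⊤)) (Ideal.smul_top_eq_map I)
  refine eq_zero_of_pow_smul_eq_zero I ψ.toLinearMap
    (Ψ.symm.toLinearMap ∘ₗ (Submodule.Quotient.restrictScalarsEquiv Γ(V, ⊤) J').symm.toLinearMap ∘ₗ γ'.toLinearMap)
    (fun y => ?_) hI n hx hφx
  rw [LinearMap.comp_apply, LinearMap.comp_apply]
  show Ψ.symm ((Submodule.Quotient.restrictScalarsEquiv Γ(V, ⊤) J').symm (qR (γ (φ.stalkMap p y)))) = _
  rw [hqR]
  rfl

include hlift in
/-- A closed subscheme containing everything off `C` and receiving `P` is everything. -/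
theorem isIso_of_closed [LocallyOfFinitePresentation i] (e : E ⟶ Q) [IsClosedImmersion e] (f : P ⟶ E) (hf : f ≫ e = φ)
    (W : Q.Opens) (hW : ∀ q, π q ∉ Set.range i → q ∈ W) (w : W.toScheme ⟶ E) (hw : w ≫ e = W.ι) : IsIso e := by
  obtain ⟨hC, hs⟩ := IsClosedImmersion.isAffine_surjective_of_isAffine i
  let I := RingHom.ker i.appTop.hom
  have hI : I.FG := by
    letI : Algebra Γ(V, ⊤) Γ(C, ⊤) := i.appTop.hom.toAlgebra
    haveI : Algebra.FinitePresentation Γ(V, ⊤) Γ(C, ⊤) :=
      HasRingHomProperty.appTop (P := @LocallyOfFinitePresentation) i inferInstance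
    exact Algebra.FinitePresentation.ker_fG_of_surjective (Algebra.ofId Γ(V, ⊤) Γ(C, ⊤)) hs
  have hWE : ∀ q ∈ W, q ∈ Set.range e := fun q hq => ⟨w ⟨q, hq⟩, congr($hw ⟨q, hq⟩)⟩
  have hsurj : Function.Surjective e := fun q => by
    by_cases hq : π q ∈ Set.range i
    · obtain ⟨p, hp, -⟩ := exists_point_over i π φ hlift hq
      exact ⟨f p, by rw [← hp, ← hf]; rfl⟩
    · exact hWE q (hW q hq)
  haveI : Surjective e := ⟨hsurj⟩
  -- functions vanishing on the subscheme vanish
  have hzero : ∀ (D : Q.Opens) (s : Γ(Q, D)), IsAffineOpen D → e.app D s = 0 → s = 0 := by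
    intro D s hD hs0
    have hsW : ∀ q ∈ W, ∀ hqD : q ∈ D, Q.presheaf.germ D q hqD s = 0 := fun q hq hqD => by
      have h1 : W.ι.app D s = 0 := by
        rw [← hw, Scheme.Hom.comp_app, CommRingCat.comp_apply, hs0, map_zero]
      apply (ConcreteCategory.bijective_of_isIso (W.ι.stalkMap ⟨q, hq⟩)).1
      rw [map_zero]
      refine (Scheme.Hom.germ_stalkMap_apply W.ι D ⟨q, hq⟩ hqD s).trans ?_
      rw [h1, map_zero]
    obtain ⟨n, hn⟩ : ∃ n : ℕ, ∀ a ∈ I ^ n,
        Q.presheaf.map (homOfLE (le_top : D ≤ ⊤)).op (π.appTop a) * s = 0 := by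
      let res : Γ(V, ⊤) →+* Γ(Q, D) := (Q.presheaf.map (homOfLE (le_top : D ≤ ⊤)).op).hom.comp π.appTop.hom
      obtain ⟨n, hn⟩ := Ideal.exists_pow_le_of_le_radical_of_fg (J := (Submodule.span Γ(Q, D) {s}).annihilator.comap res)
        (show I ≤ _ from fun a ha => by
          let b := res a
          have hb : Q.basicOpen b ≤ W := fun q hq => hW q fun ⟨c, hc⟩ => by
            have hq' : q ∈ Q.basicOpen (π.appTop a) :=
              ((Scheme.basicOpen_res Q (π.appTop a) (homOfLE (le_top : D ≤ ⊤)).op).le hq).2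
            rw [← Scheme.preimage_basicOpen_top] at hq'
            have hca : c ∈ i ⁻¹ᵁ V.basicOpen a := by show i c ∈ V.basicOpen a; rw [hc]; exact hq'
            rw [Scheme.preimage_basicOpen_top, show i.appTop a = 0 from ha, Scheme.basicOpen_zero] at hca
            exact hca
          have h0 : Q.presheaf.map (homOfLE (Q.basicOpen_le b)).op s = 0 := by
            refine TopCat.Presheaf.section_ext Q.sheaf _ _ _ fun q hq => ?_
            show Q.presheaf.germ _ q hq (Q.presheaf.map _ s) = Q.presheaf.germ _ q hq 0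
            rw [map_zero, TopCat.Presheaf.germ_res_apply]
            exact hsW q (hb hq) _
          haveI := hD.isLocalization_basicOpen b
          obtain ⟨⟨_, m, rfl⟩, hm⟩ := (IsLocalization.map_eq_zero_iff (Submonoid.powers b) _ s).1 h0
          refine ⟨m, ?_⟩
          show res (a ^ m) ∈ (Submodule.span Γ(Q, D) {s}).annihilator
          rw [Submodule.mem_annihilator_span_singleton, smul_eq_mul, map_pow]
          exact hm) hI
      exact ⟨n, fun a ha => by
        have := hn ha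
        rw [Ideal.mem_comap, Submodule.mem_annihilator_span_singleton, smul_eq_mul] at this
        exact this⟩
    refine TopCat.Presheaf.section_ext Q.sheaf _ _ _ fun q hqD => ?_
    show Q.presheaf.germ D q hqD s = Q.presheaf.germ D q hqD 0
    rw [map_zero]
    by_cases hq : π q ∈ Set.range i
    · obtain ⟨p, rfl, hp⟩ := exists_point_over i π φ hlift hq
      refine hp n _ hI (fun a ha => ?_) ?_
      · rw [← TopCat.Presheaf.germ_res_apply Q.presheaf (homOfLE (le_top : D ≤ ⊤)) (φ p) hqD (π.appTop a),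
          ← map_mul, hn a ha, map_zero]
      · rw [Scheme.Hom.germ_stalkMap_apply]
        have : φ.app D s = 0 := by
          rw [← hf, Scheme.Hom.comp_app, CommRingCat.comp_apply, hs0, map_zero]
        rw [this, map_zero]
    · exact hsW q (hW q hq) hqD
  refine IsClosedImmersion.isIso_iff_ker_eq_bot.2 (Scheme.IdealSheafData.ext (funext fun D => ?_))
  rw [e.ker_apply D, Scheme.IdealSheafData.ideal_bot]
  exact (RingHom.injective_iff_ker_eq_bot _).1 ((injective_iff_map_eq_zero _).2 fun s hs => hzero D.1 s D.2 hs)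

end Groth.Agent.AlgSpGlue
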